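import Groth.Agent.Sga7.H754.SCDef
import Groth.Agent.Sga7.H25.Spread
import Groth.Agent.Sga7.H25.Nice
import Mathlib.RingTheory.RegularLocalRing.Defs
import Mathlib.FieldTheory.IsSepClosed

/-!
# Local monodromy: the pieces of the proof over a strictly henselian base

For `f : X ⟶ Spec B`, `x : B →+* T` and an endomorphism `s` of `T` over `B`, `act M f x s` is the
action of `s` on `H^q(X ×_B T, M)`.

* `SCStmt` : `Nice ℓ f → SC (ZMod ℓ) f m`;
* `ConstStmt` : constancy modulo `ℓ` over a finitely generated ring;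
* `KummerStmt` : automorphisms fixing the `ℓ`-power roots of `ϖ` act trivially;
* `RelStmt` : extension of `φ : C ≃ C` to the separable closure of `Frac C`.
-/

set_option autoImplicit false
universe u
open CategoryTheory CategoryTheory.Limits AlgebraicGeometry IsLocalRing
open scoped Groth.Agent.Etcore.EtInst
open Groth.Agent.Etcore.EtInst Groth.Agent.Etcore.PullCoh Groth.Agent.Etcore.HC

namespace Groth.Agent.Sga7.H169.CoreDefs

open Groth.Agent.Sga7.H754.SCDef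

/-- `Spec` of a ring homomorphism. -/
noncomputable abbrev spm {A B : Type u} [CommRing A] [CommRing B] (h : A →+* B) :
    Spec (CommRingCat.of B) ⟶ Spec (CommRingCat.of A) := Spec.map (CommRingCat.ofHom h)

/-- The endomorphism `s` of `T` over `B` acts trivially on `H^q(X ×_B T, M)`, `q ≤ m`. -/
def TrivAct (M : Type) [AddCommGroup M] {X : Scheme.{u}} {B : Type u} [CommRing B]
    (f : X ⟶ Spec (CommRingCat.of B)) (m : ℕ) {T : Type u} [CommRing T] (x : B →+* T)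
    (s : T →+* T) : Prop :=
  ∀ (w : spm s ≫ spm x = spm x) (q : ℕ), q ≤ m →
    ∀ z : HH (pullback f (spm x)) (EtCoh.const _ M) q, PM M f (spm s) (spm x) (spm x) w q z = z

/-- (A) -/
def SCStmt : Prop :=
  ∀ (B : Type u) [CommRing B] [IsNoetherianRing B] {X : Scheme.{u}} (f : X ⟶ Spec (CommRingCat.of B))
    [LocallyOfFiniteType f] [QuasiCompact f] (ℓ : ℕ) (_ : ℓ.Prime) (_ : IsUnit (ℓ : B)),
    H25.Nice.Nice ℓ f → ∀ m, SC (ZMod ℓ) f m

/-- (a) Constancy over a finitely generated ring. -/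
def ConstStmt : Prop :=
  ∀ (R K Ω : Type u) [CommRing R] [IsDomain R] [Field K] [Algebra R K] [IsFractionRing R K] [Field Ω]
    [Algebra K Ω] [IsSepClosure K Ω] (A₀ : Subalgebra ℤ R) (_ : A₀.FG) (g : A₀) (hg : g ≠ 0)
    {X₀ : Scheme.{u}} (f₀ : X₀ ⟶ Spec (CommRingCat.of (Localization.Away g)))
    [LocallyOfFiniteType f₀] [QuasiCompact f₀] (ℓ : ℕ) (_ : ℓ.Prime) (_ : IsUnit (ℓ : Localization.Away g))
    (m : ℕ) (_ : SC (ZMod ℓ) f₀ m)
    (_ : ∀ σ : Ω ≃ₐ[K] Ω, TrivAct (ZMod ℓ) f₀ m ((algebraMap K Ω).comp (H25.Spread.awayHom K A₀ g hg))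
      (σ : Ω →+* Ω)),
    ∃ (A₁ : Subalgebra ℤ R) (_ : A₁.FG) (h₁ : A₀ ≤ A₁),
      ∀ (Ω₁ : Type u) [Field Ω₁] [IsSepClosed Ω₁] (x : A₁ →+* Ω₁) (_ : Function.Injective x)
        (y : Localization.Away g →+* Ω₁)
        (_ : ∀ a : A₀, y (algebraMap A₀ (Localization.Away g) a) = x (Subalgebra.inclusion h₁ a))
        (τ : Ω₁ →+* Ω₁) (_ : ∀ a, τ (x a) = x a), TrivAct (ZMod ℓ) f₀ m y τ

/-- (c) Automorphisms fixing the `ℓ`-power roots of `ϖ` act trivially. -/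
def KummerStmt : Prop :=
  ∀ (C L Ls D : Type u) [CommRing C] [IsRegularLocalRing C] [IsDomain C] [HenselianLocalRing C]
    [IsSepClosed (ResidueField C)] [Field L] [Algebra C L] [IsFractionRing C L] [Field Ls]
    [Algebra L Ls] [IsSepClosure L Ls] (ϖ : C) (_ : ϖ ∈ maximalIdeal C) (_ : ϖ ∉ maximalIdeal C ^ 2)
    (ℓ : ℕ) (_ : ℓ.Prime) (_ : IsUnit (ℓ : C))
    [CommRing D] [Algebra C D] [IsLocalization.Away ϖ D] [Algebra D L] [IsScalarTower C D L]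
    (B : Type u) [CommRing B] {X : Scheme.{u}} (f : X ⟶ Spec (CommRingCat.of B))
    [LocallyOfFiniteType f] [QuasiCompact f] (y : B →+* D) (m : ℕ)
    (_ : ∀ ν, SC (ZMod (ℓ ^ ν)) f m)
    (_ : ∀ τ : Ls ≃ₐ[L] Ls, TrivAct (ZMod ℓ) f m ((algebraMap L Ls).comp ((algebraMap D L).comp y))
      (τ : Ls →+* Ls))
    (κ : Ls ≃ₐ[L] Ls)
    (_ : ∀ (n : ℕ) (z : Ls), z ^ (ℓ ^ n) = algebraMap L Ls (algebraMap C L ϖ) → κ z = z) (ν : ℕ),
    TrivAct (ZMod (ℓ ^ ν)) f m ((algebraMap L Ls).comp ((algebraMap D L).comp y)) (κ : Ls →+* Ls)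

/-- (d) Extension of `φ : C ≃ C` to the separable closure, and the relation. -/
def RelStmt : Prop :=
  ∀ (C L Ls : Type u) [CommRing C] [IsDomain C] [HenselianLocalRing C]
    [IsSepClosed (ResidueField C)] [Field L] [Algebra C L] [IsFractionRing C L] [Field Ls]
    [Algebra L Ls] [IsSepClosure L Ls] (ϖ : C) (ℓ : ℕ) (_ : ℓ.Prime) (_ : IsUnit (ℓ : C))
    (φ : C ≃+* C) (_ : φ ϖ = ϖ) (q : ℕ) (_ : ∀ (z : C) (n : ℕ), z ^ (ℓ ^ n) = 1 → φ z = z ^ q),
    ∃ φt : Ls ≃+* Ls,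
      (∀ z : C, φt (algebraMap L Ls (algebraMap C L z)) = algebraMap L Ls (algebraMap C L (φ z))) ∧
      ∀ τ : Ls ≃ₐ[L] Ls, ∃ κ : Ls ≃ₐ[L] Ls,
        (∀ (n : ℕ) (z : Ls), z ^ (ℓ ^ n) = algebraMap L Ls (algebraMap C L ϖ) → κ z = z) ∧
        ∀ z, φt (τ z) = κ ((τ ^ q) (φt z))

end Groth.Agent.Sga7.H169.CoreDefs
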