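import Groth.Agent.Sga7.H169.QuasiUnipZl
import Groth.Agent.Ega1.LimitSystem
import Mathlib.CategoryTheory.CofilteredSystem

/-!
# Uniform quasi-unipotence for towers of finite groups `M a = H^i(-, ℤ/p^a)`

`Tower p M`: finite groups `M a` killed by `p^a`, transition maps `tr : M b → M a` (`a ≤ b`), maps
`mul : M a → M (a+1)` ("multiplication by `p`") with `M a → M (a+1) → M 1` exact.

Main theorem `exists_uniform_nilpotent`: given towers `M` (degree `i`), `M'` (degree `i+1`), connecting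
maps `del a b : M b → M' a` with `M (a+b) → M b → M' a` exact, compatible automorphisms `φ` and `q ≥ 2`
there are `N > 0` and `m` such that for ALL compatible injective `τ` with `φ τ = τ^q φ` and all `a`
`(τ_a^N - 1)^m = 0` on `M a`.
-/

set_option autoImplicit false

universe v w

namespace Groth.Agent.Sga7.H169.QuasiUnip

open Module CategoryTheory Groth.Agent.Sga7.H169.QuasiUnipZl

/-- A tower of groups, as `H^i(-, ℤ/p^a)` for fixed `i`. -/
structure Tower (p : ℕ) (M : ℕ → Type v) [∀ a, AddCommGroup (M a)] where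
  /-- transition maps -/
  tr : ∀ {a b : ℕ}, a ≤ b → M b →+ M a
  /-- multiplication by `p`, as a map `M a → M (a+1)` -/
  mul : ∀ a, M a →+ M (a + 1)
  tr_refl : ∀ (a : ℕ) (x : M a), tr le_rfl x = x
  tr_tr : ∀ {a b c : ℕ} (h : a ≤ b) (h' : b ≤ c) (x : M c), tr h (tr h' x) = tr (h.trans h') x
  tr_mul : ∀ {a b : ℕ} (h : a ≤ b) (x : M b), tr (Nat.succ_le_succ h) (mul b x) = mul a (tr h x)
  tr_mul_self : ∀ (a : ℕ) (x : M a), tr (Nat.le_succ a) (mul a x) = p • x
  exact : ∀ (a : ℕ) (x : M (a + 1)), tr (Nat.succ_le_succ (Nat.zero_le a)) x = 0 → ∃ y, mul a y = x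
  torsion : ∀ (a : ℕ) (x : M a), p ^ a • x = 0

namespace Tower

variable {p : ℕ} {M : ℕ → Type v} [∀ a, AddCommGroup (M a)] (S : Tower p M)

/-- An endomorphism of a tower (compatible with the transition maps). -/
def Compat (τ : ∀ a, AddMonoid.End (M a)) : Prop :=
  ∀ {a b : ℕ} (h : a ≤ b) (x : M b), S.tr h (τ b x) = τ a (S.tr h x)

theorem Compat.pow {S : Tower p M} {τ : ∀ a, AddMonoid.End (M a)} (hτ : S.Compat τ) (n : ℕ) :
    ∀ {a b : ℕ} (h : a ≤ b) (x : M b),
      S.tr h (((τ b) ^ n) x) = ((τ a) ^ n) (S.tr h x) := by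
  induction n with
  | zero => intro a b h x; rfl
  | succ n ih =>
    intro a b h x
    rw [pow_succ', pow_succ']
    change S.tr h (τ b (((τ b) ^ n) x)) =
      τ a (((τ a) ^ n) (S.tr h x))
    rw [hτ, ih]

/-- Compactness: an inverse system of nonempty subsets of the `M (f a)`. -/
theorem exists_compatible (S : Tower p M) [∀ a, Finite (M a)] (f : ℕ → ℕ) (hf : Monotone f)
    (P : ∀ a, Set (M (f a))) (hne : ∀ a, (P a).Nonempty)
    (hP : ∀ {a b : ℕ} (h : a ≤ b) (x : M (f b)), x ∈ P b → S.tr (hf h) x ∈ P a) :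
    ∃ y : ∀ a, M (f a), (∀ a, y a ∈ P a) ∧ ∀ {a b : ℕ} (h : a ≤ b), S.tr (hf h) (y b) = y a := by
  let F : ℕᵒᵖ ⥤ Type v :=
    { obj := fun a => P a.unop
      map := fun {a b} g => ↾fun x =>
        ⟨S.tr (hf (CategoryTheory.leOfHom g.unop)) x.1, hP (CategoryTheory.leOfHom g.unop) x.1 x.2⟩
      map_id := fun a => by
        ext x
        exact S.tr_refl _ _
      map_comp := fun {a b c} g h => by
        ext x
        exact (S.tr_tr _ _ _).symm }
  have : ∀ a : ℕᵒᵖ, Finite (F.obj a) := fun a => Subtype.finite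
  have : ∀ a : ℕᵒᵖ, Nonempty (F.obj a) := fun a => (hne a.unop).to_subtype
  obtain ⟨s, hs⟩ := nonempty_sections_of_finite_inverse_system F
  refine ⟨fun a => (s (Opposite.op a)).1, fun a => (s (Opposite.op a)).2, fun {a b} h => ?_⟩
  exact congrArg Subtype.val (hs (CategoryTheory.homOfLE h).op)

section PadicModule

variable [Fact p.Prime]

/-- The `ℤ_[p]`-module structure of a group killed by `p^a`. -/
@[reducible] noncomputable def zpModule (a : ℕ) : Module ℤ_[p] (M a) :=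
  letI : Module (ZMod (p ^ a)) (M a) := AddCommGroup.zmodModule (S.torsion a)
  Module.compHom (M a) (PadicInt.toZModPow a)

theorem smul_eq_nsmul {a b : ℕ} (h : a ≤ b) {z : ℤ_[p]} {n : ℕ}
    (hz : z - n ∈ Ideal.span {(p : ℤ_[p]) ^ b}) (x : M a) :
    (letI := S.zpModule a; z • x) = n • x := by
  letI : Module (ZMod (p ^ a)) (M a) := AddCommGroup.zmodModule (S.torsion a)
  change PadicInt.toZModPow a z • x = n • x
  have h1 : PadicInt.toZModPow a z = (n : ZMod (p ^ a)) := by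
    have h2 : z - n ∈ RingHom.ker (PadicInt.toZModPow (p := p) a) := by
      rw [PadicInt.ker_toZModPow]
      exact (Ideal.span_singleton_le_span_singleton.mpr (pow_dvd_pow _ h)) hz
    rw [RingHom.mem_ker, map_sub, map_natCast, sub_eq_zero] at h2
    exact h2
  rw [h1, Nat.cast_smul_eq_nsmul]

theorem exists_nat_sub_mem (z : ℤ_[p]) (b : ℕ) : ∃ n : ℕ, z - n ∈ Ideal.span {(p : ℤ_[p]) ^ b} :=
  ⟨_, PadicInt.appr_spec b z⟩

theorem map_smul_zp {a b : ℕ} {M' : ℕ → Type w} [∀ a, AddCommGroup (M' a)] (S' : Tower p M')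
    (f : M b →+ M' a) (z : ℤ_[p]) (x : M b) :
    f (letI := S.zpModule b; z • x) = (letI := S'.zpModule a; z • f x) := by
  obtain ⟨n, hn⟩ := exists_nat_sub_mem z (max a b)
  rw [S.smul_eq_nsmul (le_max_right a b) hn, S'.smul_eq_nsmul (le_max_left a b) hn, map_nsmul]

/-- The limit of the tower, a `ℤ_[p]`-submodule of the product. -/
noncomputable def lim : letI := S.zpModule; Submodule ℤ_[p] (∀ a, M a) :=
  letI := S.zpModule
  { carrier := {x | ∀ (a b : ℕ) (h : a ≤ b), S.tr h (x b) = x a}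
    add_mem' := fun {x y} hx hy a b h => by
      rw [Pi.add_apply, Pi.add_apply, map_add, hx a b h, hy a b h]
    zero_mem' := fun a b h => by rw [Pi.zero_apply, Pi.zero_apply, map_zero]
    smul_mem' := fun z x hx a b h => by
      change S.tr h (z • x b) = z • x a
      rw [← hx a b h]
      exact S.map_smul_zp S (S.tr h) z (x b) }

theorem mem_lim (x : ∀ a, M a) : x ∈ (letI := S.zpModule; S.lim) ↔
    ∀ (a b : ℕ) (h : a ≤ b), S.tr h (x b) = x a := Iff.rfl

/-- The elements of the limit with zero component in `M 1` are divisible by `p`. -/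
theorem exists_smul_eq [∀ a, Finite (M a)] (x : letI := S.zpModule; S.lim) (h1 : x.1 1 = 0) :
    letI := S.zpModule
    ∃ y : S.lim, (p : ℤ_[p]) • y = x := by
  letI := S.zpModule
  obtain ⟨y, hy, hy'⟩ := S.exists_compatible id monotone_id (fun a => {z | S.mul a z = x.1 (a + 1)})
    (fun a => S.exact a _ (by rw [x.2 1 (a + 1) (by omega), h1]))
    (fun {a b} h z hz => by
      change S.mul a (S.tr h z) = _
      rw [← S.tr_mul h z, show S.mul b z = x.1 (b + 1) from hz]
      exact x.2 _ _ _)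
  refine ⟨⟨y, fun a b h => hy' h⟩, ?_⟩
  ext a
  change (p : ℤ_[p]) • y a = x.1 a
  have h2 : (p : ℤ_[p]) • y a = p • y a := by
    rw [Nat.cast_smul_eq_nsmul]
  rw [h2, ← S.tr_mul_self a (y a), show S.mul a (y a) = x.1 (a + 1) from hy a]
  exact x.2 _ _ _

theorem isHausdorff_lim : letI := S.zpModule
    IsHausdorff (Ideal.span {(p : ℤ_[p])}) S.lim := by
  letI := S.zpModule
  refine ⟨fun x hx => ?_⟩
  ext a
  have h1 := hx a
  rw [SModEq.zero, Ideal.span_singleton_pow, Submodule.ideal_span_singleton_smul,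
    Submodule.mem_smul_pointwise_iff_exists] at h1
  obtain ⟨y, -, hy⟩ := h1
  rw [← hy]
  change (p : ℤ_[p]) ^ a • y.1 a = 0
  rw [← Nat.cast_pow, Nat.cast_smul_eq_nsmul]
  exact S.torsion a _

theorem finite_lim [∀ a, Finite (M a)] : letI := S.zpModule
    Module.Finite ℤ_[p] S.lim := by
  letI := S.zpModule
  have := S.isHausdorff_lim
  have hp : Ideal.span {(p : ℤ_[p])} = IsLocalRing.maximalIdeal ℤ_[p] :=
    PadicInt.maximalIdeal_eq_span_p.symm
  have : IsAdicComplete (Ideal.span {(p : ℤ_[p])}) ℤ_[p] := by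
    rw [hp]
    infer_instance
  have : IsPrecomplete (Ideal.span {(p : ℤ_[p])}) ℤ_[p] := inferInstance
  refine Groth.Agent.Ega1.LimitSystem.finite_of_finite_quotient (I := Ideal.span {(p : ℤ_[p])}) ?_
  -- the quotient is finite
  have hfin : Finite (S.lim ⧸ (Ideal.span {(p : ℤ_[p])} • ⊤ : Submodule ℤ_[p] S.lim)) := by
    let g : (S.lim ⧸ (Ideal.span {(p : ℤ_[p])} • ⊤ : Submodule ℤ_[p] S.lim)) → M 1 :=
      fun q => (Quotient.out q : S.lim).1 1
    refine Finite.of_injective g fun q q' hqq' => ?_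
    have h1 : ((Quotient.out q : S.lim) - (Quotient.out q' : S.lim)).1 1 = 0 :=
      sub_eq_zero.mpr hqq'
    obtain ⟨y, hy⟩ := S.exists_smul_eq _ h1
    have h2 : (Quotient.out q : S.lim) - (Quotient.out q' : S.lim) ∈
        (Ideal.span {(p : ℤ_[p])} • ⊤ : Submodule ℤ_[p] S.lim) := by
      rw [← hy]
      exact Submodule.smul_mem_smul (Ideal.mem_span_singleton_self _) trivial
    have h3 := (Submodule.Quotient.eq _).mpr h2
    rwa [show Submodule.Quotient.mk (Quotient.out q : S.lim) = q from Quotient.out_eq q,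
      show Submodule.Quotient.mk (Quotient.out q' : S.lim) = q' from Quotient.out_eq q'] at h3
  exact Module.Finite.of_finite

/-- The endomorphism of the limit defined by a compatible family. -/
noncomputable def limEnd (τ : ∀ a, AddMonoid.End (M a)) (hτ : S.Compat τ) :
    letI := S.zpModule; End ℤ_[p] S.lim :=
  letI := S.zpModule
  { toFun := fun x => ⟨fun a => τ a (x.1 a), fun a b h => by
      rw [hτ h]
      exact congrArg (τ a) (x.2 a b h)⟩
    map_add' := fun x y => by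
      ext a
      exact map_add (τ a) _ _
    map_smul' := fun z x => by
      ext a
      exact S.map_smul_zp S (τ a) z (x.1 a) }

theorem limEnd_apply (τ : ∀ a, AddMonoid.End (M a)) (hτ : S.Compat τ) (x : letI := S.zpModule; S.lim) (a : ℕ) :
    (letI := S.zpModule; (S.limEnd τ hτ x).1 a) = τ a (x.1 a) := rfl

theorem limEnd_pow_apply (τ : ∀ a, AddMonoid.End (M a)) (hτ : S.Compat τ) (n : ℕ)
    (x : letI := S.zpModule; S.lim) (a : ℕ) :
    (letI := S.zpModule; ((S.limEnd τ hτ ^ n) x).1 a) = ((τ a) ^ n) (x.1 a) := by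
  letI := S.zpModule
  change ((S.limEnd τ hτ ^ n) x).1 a = _
  induction n with
  | zero => rfl
  | succ n ih =>
    rw [pow_succ', pow_succ', Module.End.mul_apply, S.limEnd_apply, ih]
    rfl

theorem limEnd_bijective (τ : ∀ a, AddMonoid.End (M a)) (hτ : S.Compat τ) (hb : ∀ a, Function.Bijective (τ a)) :
    letI := S.zpModule; Function.Bijective (S.limEnd τ hτ) := by
  letI := S.zpModule
  constructor
  · intro x y hxy
    ext a
    exact (hb a).1 (congrArg (fun z => z.1 a) hxy)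
  · intro y
    choose x hx using fun a => (hb a).2 (y.1 a)
    refine ⟨⟨x, fun a b h => (hb a).1 ?_⟩, ?_⟩
    · rw [hx a, ← hτ h, hx b]
      exact y.2 a b h
    · ext a
      exact hx a

/-- The polynomial `(τ^N - 1)^m` evaluated on the limit, componentwise. -/
theorem limEnd_pow_sub_one_pow_apply (τ : ∀ a, AddMonoid.End (M a)) (hτ : S.Compat τ) (N m : ℕ)
    (x : letI := S.zpModule; S.lim) (a : ℕ) :
    (letI := S.zpModule; (((S.limEnd τ hτ ^ N - 1) ^ m) x).1 a) =
      (((τ a) ^ N - 1) ^ m) (x.1 a) := by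
  letI := S.zpModule
  change (((S.limEnd τ hτ ^ N - 1) ^ m) x).1 a = _
  induction m with
  | zero => rfl
  | succ m ih =>
    rw [pow_succ', pow_succ', Module.End.mul_apply, LinearMap.sub_apply]
    change ((S.limEnd τ hτ ^ N) (((S.limEnd τ hτ ^ N - 1) ^ m) x)).1 a -
      (((S.limEnd τ hτ ^ N - 1) ^ m) x).1 a = _
    rw [S.limEnd_pow_apply, ih]
    rfl

end PadicModule

end Tower

/-- Uniform quasi-unipotence on the limit of a tower of finite groups. -/
theorem exists_uniform_lim {p : ℕ} [Fact p.Prime] {M : ℕ → Type v} [∀ a, AddCommGroup (M a)]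
    [∀ a, Finite (M a)] (S : Tower p M) (φ : ∀ a, AddMonoid.End (M a)) (hφ : S.Compat φ)
    (hφb : ∀ a, Function.Bijective (φ a)) {q : ℕ} (hq : 2 ≤ q) :
    ∃ N m : ℕ, 0 < N ∧ ∀ τ : ∀ a, AddMonoid.End (M a), S.Compat τ → (∀ a, Function.Injective (τ a)) →
      (∀ (a : ℕ) (x : M a), φ a (τ a x) = ((τ a) ^ q) (φ a x)) →
      ∀ x : ∀ a, M a, (∀ (a b : ℕ) (h : a ≤ b), S.tr h (x b) = x a) →
        ∀ a, (((τ a) ^ N - 1) ^ m) (x a) = 0 := by
  letI := S.zpModule
  have := S.finite_lim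
  obtain ⟨N, m, hN, H⟩ := QuasiUnipZl.exists_uniform (p := p) S.lim (S.limEnd φ hφ)
    (S.limEnd_bijective φ hφ hφb) hq
  refine ⟨N, m, hN, fun τ hτ hτi hrel x hx a => ?_⟩
  have h1 := H (S.limEnd τ hτ) (fun x y hxy => by
    ext a
    exact hτi a (congrArg (fun z => z.1 a) hxy)) (by
    ext x a
    change φ a (τ a (x.1 a)) = ((S.limEnd τ hτ ^ q) (S.limEnd φ hφ x)).1 a
    rw [S.limEnd_pow_apply, hrel]
    rfl)
  have h2 := S.limEnd_pow_sub_one_pow_apply τ hτ N m ⟨x, hx⟩ a
  rw [h1] at h2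
  exact h2.symm

/-- `(A^N - 1)^m x = 0` implies `(A^(N N') - 1)^m x = 0`. -/
theorem pow_mul_sub_one_pow_apply {G : Type*} [AddCommGroup G] (A : AddMonoid.End G) (N N' m : ℕ)
    {x : G} (h : ((A ^ N - 1) ^ m) x = 0) : ((A ^ (N * N') - 1) ^ m) x = 0 := by
  have h1 : A ^ (N * N') - 1 = (∑ i ∈ Finset.range N', (A ^ N) ^ i) * (A ^ N - 1) := by
    rw [pow_mul]
    exact (geom_sum_mul (A ^ N) N').symm
  have h2 : Commute (∑ i ∈ Finset.range N', (A ^ N) ^ i) (A ^ N - 1) := by
    refine Commute.sub_right ?_ (Commute.one_right _)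
    exact Commute.sum_left _ _ _ fun i _ => (Commute.refl (A ^ N)).pow_left i
  rw [h1, h2.mul_pow]
  change ((∑ i ∈ Finset.range N', (A ^ N) ^ i) ^ m) (((A ^ N - 1) ^ m) x) = 0
  rw [h, map_zero]

/-- **Uniform quasi-unipotence.**  Towers `M` (degree `i`) and `M'` (degree `i+1`) of finite groups,
connecting maps `del a b : M b → M' a` with `M (a+b) → M b → M' a` exact, compatible automorphisms `φ`,
`φ'` and an integer `q ≥ 2`: there are `N > 0` and `m` such that for all compatible injective `τ`, `τ'`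
with `φ τ = τ^q φ`, `φ' τ' = τ'^q φ'` and all `a` one has `(τ_a^N - 1)^m = 0` on `M a`. -/
theorem exists_uniform_nilpotent {p : ℕ} [Fact p.Prime]
    {M : ℕ → Type v} [∀ a, AddCommGroup (M a)] [∀ a, Finite (M a)] (S : Tower p M)
    {M' : ℕ → Type w} [∀ a, AddCommGroup (M' a)] [∀ a, Finite (M' a)] (S' : Tower p M')
    (del : ∀ a b : ℕ, M b →+ M' a)
    (hdel : ∀ (b : ℕ) {a a' : ℕ} (h : a ≤ a') (x : M b), S'.tr h (del a' b x) = del a b x)
    (hexact : ∀ (a b : ℕ) (x : M b), del a b x = 0 → ∃ y : M (a + b), S.tr (Nat.le_add_left b a) y = x)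
    (φ : ∀ a, AddMonoid.End (M a)) (hφ : S.Compat φ) (hφb : ∀ a, Function.Bijective (φ a))
    (φ' : ∀ a, AddMonoid.End (M' a)) (hφ' : S'.Compat φ') (hφb' : ∀ a, Function.Bijective (φ' a))
    {q : ℕ} (hq : 2 ≤ q) :
    ∃ N m : ℕ, 0 < N ∧ ∀ (τ : ∀ a, AddMonoid.End (M a)) (τ' : ∀ a, AddMonoid.End (M' a)),
      S.Compat τ → (∀ a, Function.Injective (τ a)) →
      S'.Compat τ' → (∀ a, Function.Injective (τ' a)) →
      (∀ (a b : ℕ) (x : M b), del a b (τ b x) = τ' a (del a b x)) →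
      (∀ (a : ℕ) (x : M a), φ a (τ a x) = ((τ a) ^ q) (φ a x)) →
      (∀ (a : ℕ) (x : M' a), φ' a (τ' a x) = ((τ' a) ^ q) (φ' a x)) →
      ∀ a, ((τ a) ^ N - 1) ^ m = 0 := by
  obtain ⟨N₁, m₁, hN₁, H₁⟩ := exists_uniform_lim S φ hφ hφb hq
  obtain ⟨N₂, m₂, hN₂, H₂⟩ := exists_uniform_lim S' φ' hφ' hφb' hq
  refine ⟨N₁ * N₂, m₁ + m₂, Nat.mul_pos hN₁ hN₂, fun τ τ' hτ hτi hτ' hτi' hdτ hrel hrel' b => ?_⟩
  ext x
  rw [pow_add]
  change ((((τ b) ^ (N₁ * N₂) - 1) ^ m₁))
    ((((τ b) ^ (N₁ * N₂) - 1) ^ m₂) x) = 0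
  -- `y` has zero boundary
  set y := (((τ b) ^ (N₁ * N₂) - 1) ^ m₂) x with hy
  have hpow : ∀ (n a : ℕ) (z : M b), del a b (((τ b) ^ n) z) =
      ((τ' a) ^ n) (del a b z) := by
    intro n a
    induction n with
    | zero => intro z; rfl
    | succ n ih =>
      intro z
      rw [pow_succ', pow_succ']
      change del a b (τ b (((τ b) ^ n) z)) =
        τ' a (((τ' a) ^ n) (del a b z))
      rw [hdτ, ih]
  have hpow' : ∀ (n a : ℕ) (z : M b), del a b ((((τ b) ^ (N₁ * N₂) - 1) ^ n) z) =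
      (((τ' a) ^ (N₁ * N₂) - 1) ^ n) (del a b z) := by
    intro n a
    induction n with
    | zero => intro z; rfl
    | succ n ih =>
      intro z
      rw [pow_succ', pow_succ']
      change del a b (((τ b) ^ (N₁ * N₂))
          ((((τ b) ^ (N₁ * N₂) - 1) ^ n) z) -
          ((((τ b) ^ (N₁ * N₂) - 1) ^ n) z)) =
        ((τ' a) ^ (N₁ * N₂))
          ((((τ' a) ^ (N₁ * N₂) - 1) ^ n) (del a b z)) -
          ((((τ' a) ^ (N₁ * N₂) - 1) ^ n) (del a b z))
      rw [map_sub, hpow, ih]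
  have hdy : ∀ a, del a b y = 0 := by
    intro a
    rw [hy, hpow', mul_comm N₁ N₂]
    refine pow_mul_sub_one_pow_apply _ N₂ N₁ m₂ ?_
    exact H₂ τ' hτ' hτi' hrel' (fun a => del a b x) (fun a a' h => hdel b h x) a
  -- lift `y` to the limit
  obtain ⟨z, hz, hz'⟩ := S.exists_compatible (fun a => a + b) (fun a a' h => Nat.add_le_add_right h b)
    (fun a => {z | S.tr (Nat.le_add_left b a) z = y}) (fun a => hexact a b y (hdy a))
    (fun {a a'} h z hz => by
      change S.tr _ (S.tr _ z) = y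
      rw [S.tr_tr]
      exact hz)
  have hz0 : S.tr (Nat.le_add_left b 0) (z 0) = y := hz 0
  let w : ∀ a, M a := fun a => S.tr (Nat.le_add_right a b) (z a)
  have hw : ∀ (a a' : ℕ) (h : a ≤ a'), S.tr h (w a') = w a := by
    intro a a' h
    change S.tr h (S.tr _ (z a')) = S.tr _ (z a)
    rw [S.tr_tr, ← hz' h, S.tr_tr]
  have hwb : w b = y := by
    change S.tr _ (z b) = y
    have h1 := hz b
    exact h1
  rw [← hwb]
  refine pow_mul_sub_one_pow_apply _ N₁ N₂ m₁ ?_
  exact H₁ τ hτ hτi hrel w hw b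

end Groth.Agent.Sga7.H169.QuasiUnip
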