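import Groth.Agent.Localalg.DeltaFun
import Groth.Agent.Sga7.H169.QuasiUnip
import Mathlib.Algebra.Homology.ShortComplex.Ab
import Mathlib.Algebra.Category.Grp.Ulift

/-!
# The tower `T^n(ℤ/p^a)` of a delta functor on abelian groups, and uniform quasi-unipotence

`T : DeltaFunctor AddCommGrpCat.{w} AddCommGrpCat.{v}` (e.g. `A ↦ (R^n f_* A)_ξ` or `A ↦ H^n(X, A)`).

* `Zp p a` : `ℤ/p^a` as an object of `AddCommGrpCat.{w}`; `up f` : the morphism defined by
  `f : M →+ N`; `redZ`, `incZ` : reduction and multiplication by `p^b`;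
* `tower T hp n : Tower p (fun a => (T.T n).obj (Zp p a))`, `del T hp n a b`, `tr_del`, `exists_tr_eq`;
* `exists_uniform_nilpotent` : uniform quasi-unipotence for endomorphisms of the delta functor.
-/

set_option autoImplicit false

universe w v

namespace Groth.Agent.Sga7.H169.DeltaTower

open CategoryTheory CategoryTheory.Limits Groth.Agent.Localalg.DeltaFun Groth.Agent.Sga7.H169.QuasiUnip

section ZMod

/-- Reduction `ℤ/p^b → ℤ/p^a`. -/
def redZ (p : ℕ) {a b : ℕ} (h : a ≤ b) : ZMod (p ^ b) →+ ZMod (p ^ a) :=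
  (ZMod.castHom (pow_dvd_pow p h) (ZMod (p ^ a))).toAddMonoidHom

theorem redZ_intCast (p : ℕ) {a b : ℕ} (h : a ≤ b) (x : ℤ) :
    redZ p h (x : ZMod (p ^ b)) = (x : ZMod (p ^ a)) :=
  map_intCast (ZMod.castHom (pow_dvd_pow p h) (ZMod (p ^ a))) x

/-- Multiplication by `p^b`, as a map `ℤ/p^a → ℤ/p^(a+b)`. -/
def incZ (p a b : ℕ) : ZMod (p ^ a) →+ ZMod (p ^ (a + b)) :=
  ZMod.lift (p ^ a) ⟨zmultiplesHom _ ((p ^ b : ℕ) : ZMod (p ^ (a + b))), by
    rw [zmultiplesHom_apply, natCast_zsmul, nsmul_eq_mul, ← Nat.cast_mul, ← pow_add]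
    exact ZMod.natCast_self _⟩

theorem incZ_intCast (p a b : ℕ) (x : ℤ) :
    incZ p a b (x : ZMod (p ^ a)) = ((x * p ^ b : ℤ) : ZMod (p ^ (a + b))) := by
  rw [incZ, ZMod.lift_coe]
  change zmultiplesHom _ ((p ^ b : ℕ) : ZMod (p ^ (a + b))) x = _
  rw [zmultiplesHom_apply, zsmul_eq_mul]
  push_cast
  rfl

theorem hom_ext {n : ℕ} {A : Type*} [AddCommGroup A] {f g : ZMod n →+ A}
    (h : ∀ x : ℤ, f (x : ZMod n) = g (x : ZMod n)) : f = g := by
  ext y
  obtain ⟨x, rfl⟩ := ZMod.intCast_surjective y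
  exact h x

theorem redZ_refl (p a : ℕ) : redZ p (le_refl a) = AddMonoidHom.id _ :=
  hom_ext fun x => redZ_intCast p _ x

theorem redZ_redZ (p : ℕ) {a b c : ℕ} (h : a ≤ b) (h' : b ≤ c) :
    (redZ p h).comp (redZ p h') = redZ p (h.trans h') :=
  hom_ext fun x => by
    rw [AddMonoidHom.comp_apply, redZ_intCast, redZ_intCast, redZ_intCast]

theorem redZ_incZ (p : ℕ) {a a' : ℕ} (h : a ≤ a') (b : ℕ) :
    (redZ p (Nat.add_le_add_right h b)).comp (incZ p a' b) = (incZ p a b).comp (redZ p h) :=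
  hom_ext fun x => by
    rw [AddMonoidHom.comp_apply, AddMonoidHom.comp_apply, incZ_intCast, redZ_intCast, redZ_intCast,
      incZ_intCast]

theorem redZ_incZ_self (p a b : ℕ) :
    (redZ p (Nat.le_add_right a b)).comp (incZ p a b) = (p ^ b) • AddMonoidHom.id _ :=
  hom_ext fun x => by
    rw [AddMonoidHom.comp_apply, incZ_intCast, redZ_intCast, AddMonoidHom.nsmul_apply,
      AddMonoidHom.id_apply, nsmul_eq_mul]
    push_cast
    ring

theorem redZ_incZ_zero (p a b : ℕ) :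
    (redZ p (Nat.le_add_left b a)).comp (incZ p a b) = 0 :=
  hom_ext fun x => by
    rw [AddMonoidHom.comp_apply, incZ_intCast, redZ_intCast, AddMonoidHom.zero_apply]
    have h : ((p ^ b : ℕ) : ZMod (p ^ b)) = 0 := ZMod.natCast_self _
    push_cast at h ⊢
    rw [h, mul_zero]

theorem incZ_injective {p : ℕ} (hp : p ≠ 0) (a b : ℕ) : Function.Injective (incZ p a b) := by
  rw [injective_iff_map_eq_zero]
  intro y hy
  obtain ⟨x, rfl⟩ := ZMod.intCast_surjective y
  rw [incZ_intCast, ZMod.intCast_zmod_eq_zero_iff_dvd] at hy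
  rw [ZMod.intCast_zmod_eq_zero_iff_dvd]
  have h : ((p ^ b : ℕ) : ℤ) ≠ 0 := Int.natCast_ne_zero.mpr (pow_ne_zero _ hp)
  refine Int.dvd_of_mul_dvd_mul_right h ?_
  convert hy using 1
  · push_cast
    ring
  · push_cast
    ring

theorem exists_incZ_eq (p a b : ℕ) (y : ZMod (p ^ (a + b)))
    (hy : redZ p (Nat.le_add_left b a) y = 0) : ∃ z, incZ p a b z = y := by
  obtain ⟨x, rfl⟩ := ZMod.intCast_surjective y
  rw [redZ_intCast, ZMod.intCast_zmod_eq_zero_iff_dvd] at hy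
  obtain ⟨c, rfl⟩ := hy
  refine ⟨(c : ZMod (p ^ a)), ?_⟩
  rw [incZ_intCast]
  congr 1
  push_cast
  ring

theorem redZ_surjective (p : ℕ) {a b : ℕ} (h : a ≤ b) : Function.Surjective (redZ p h) := by
  intro y
  obtain ⟨x, rfl⟩ := ZMod.intCast_surjective y
  exact ⟨_, redZ_intCast p h x⟩

end ZMod

section Grp

/-- The morphism of `AddCommGrpCat.{w}` defined by a homomorphism of small groups. -/
def up {M N : Type} [AddCommGroup M] [AddCommGroup N] (f : M →+ N) :
    AddCommGrpCat.of (ULift.{w} M) ⟶ AddCommGrpCat.of (ULift.{w} N) :=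
  AddCommGrpCat.ofHom (AddEquiv.ulift.symm.toAddMonoidHom.comp (f.comp AddEquiv.ulift.toAddMonoidHom))

theorem up_apply {M N : Type} [AddCommGroup M] [AddCommGroup N] (f : M →+ N) (x : ULift.{w} M) :
    (up.{w} f).hom x = ULift.up (f x.down) := rfl

theorem up_id (M : Type) [AddCommGroup M] : up.{w} (AddMonoidHom.id M) = 𝟙 _ := rfl

theorem up_comp {M N P : Type} [AddCommGroup M] [AddCommGroup N] [AddCommGroup P] (f : M →+ N)
    (g : N →+ P) : up.{w} (g.comp f) = up f ≫ up g := rfl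

theorem up_zero {M N : Type} [AddCommGroup M] [AddCommGroup N] : up.{w} (0 : M →+ N) = 0 := rfl

theorem up_nsmul_id (M : Type) [AddCommGroup M] (n : ℕ) :
    up.{w} (n • AddMonoidHom.id M) = n • 𝟙 _ := by
  induction n with
  | zero => rw [zero_nsmul, zero_nsmul, up_zero]
  | succ n ih =>
    rw [succ_nsmul, succ_nsmul, ← ih]
    rfl

/-- `ℤ/p^a` as an object of `AddCommGrpCat.{w}`. -/
abbrev Zp (p a : ℕ) : AddCommGrpCat.{w} := AddCommGrpCat.of (ULift.{w} (ZMod (p ^ a)))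

/-- The short complex `ℤ/p^a → ℤ/p^(a+b) → ℤ/p^b`. -/
def ses (p a b : ℕ) : ShortComplex AddCommGrpCat.{w} :=
  ShortComplex.mk (X₁ := Zp p a) (X₂ := Zp p (a + b)) (X₃ := Zp p b) (up (incZ p a b))
    (up (redZ p (Nat.le_add_left b a))) (by rw [← up_comp, redZ_incZ_zero, up_zero])

theorem ses_shortExact {p : ℕ} (hp : p ≠ 0) (a b : ℕ) : (ses.{w} p a b).ShortExact where
  exact := by
    rw [ShortComplex.ab_exact_iff]
    intro x hx
    obtain ⟨z, hz⟩ := exists_incZ_eq p a b x.down (congrArg ULift.down hx)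
    exact ⟨ULift.up z, congrArg ULift.up hz⟩
  mono_f := by
    rw [AddCommGrpCat.mono_iff_injective]
    intro x y hxy
    exact ULift.down_injective (incZ_injective hp a b (congrArg ULift.down hxy))
  epi_g := by
    rw [AddCommGrpCat.epi_iff_surjective]
    intro y
    obtain ⟨x, hx⟩ := redZ_surjective p (Nat.le_add_left b a) y.down
    exact ⟨ULift.up x, congrArg ULift.up hx⟩

/-- The map of short exact sequences `(a', b) → (a, b)` for `a ≤ a'`. -/
def sesMap (p : ℕ) {a a' : ℕ} (h : a ≤ a') (b : ℕ) : ses.{w} p a' b ⟶ ses.{w} p a b where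
  τ₁ := up (redZ p h)
  τ₂ := up (redZ p (Nat.add_le_add_right h b))
  τ₃ := 𝟙 _
  comm₁₂ := by
    change up _ ≫ up _ = up _ ≫ up _
    rw [← up_comp, ← up_comp, redZ_incZ]
  comm₂₃ := by
    change up _ ≫ up _ = up _ ≫ 𝟙 _
    rw [← up_comp, Category.comp_id, redZ_redZ]

end Grp

section Tower

variable (T : DeltaFunctor AddCommGrpCat.{w} AddCommGrpCat.{v}) {p : ℕ} (hp : p ≠ 0) (n : ℕ)

theorem map_up_comp {M N P : Type} [AddCommGroup M] [AddCommGroup N] [AddCommGroup P] (f : M →+ N)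
    (g : N →+ P) (x : (T.T n).obj (AddCommGrpCat.of (ULift.{w} M))) :
    ((T.T n).map (up g)).hom (((T.T n).map (up f)).hom x) = ((T.T n).map (up (g.comp f))).hom x := by
  rw [up_comp, Functor.map_comp]
  rfl

/-- The tower of groups `T^n(ℤ/p^a)`. -/
def tower : Tower p (fun a => (T.T n).obj (Zp p a)) where
  tr h := ((T.T n).map (up (redZ p h))).hom
  mul a := ((T.T n).map (up (incZ p a 1))).hom
  tr_refl a x := by
    rw [redZ_refl, up_id, CategoryTheory.Functor.map_id]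
    rfl
  tr_tr h h' x := by
    rw [map_up_comp, redZ_redZ]
  tr_mul h x := by
    rw [map_up_comp, map_up_comp]
    exact congrArg (fun g => ((T.T n).map (up g)).hom x) (redZ_incZ p h 1)
  tr_mul_self a x := by
    rw [map_up_comp]
    have h : (redZ p (Nat.le_succ a)).comp (incZ p a 1) = (p ^ 1) • AddMonoidHom.id _ :=
      redZ_incZ_self p a 1
    rw [h, up_nsmul_id, pow_one, Functor.map_nsmul, CategoryTheory.Functor.map_id]
    rfl
  exact a x hx := by
    have h1 := T.exact₂ (ses_shortExact hp a 1) n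
    rw [ShortComplex.ab_exact_iff] at h1
    exact h1 x hx
  torsion a x := by
    have h1 : (p ^ a) • AddMonoidHom.id (ZMod (p ^ a)) = 0 := by
      refine hom_ext fun x => ?_
      rw [AddMonoidHom.nsmul_apply, AddMonoidHom.id_apply, nsmul_eq_mul, ZMod.natCast_self, zero_mul]
      rfl
    have h2 : (p ^ a) • 𝟙 (Zp.{w} p a) = 0 := by
      rw [← up_nsmul_id, h1, up_zero]
    have h3 : (p ^ a) • 𝟙 ((T.T n).obj (Zp.{w} p a)) = 0 := by
      rw [← CategoryTheory.Functor.map_id, ← Functor.map_nsmul, h2, Functor.map_zero]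
    exact congrArg (fun f => f.hom x) h3

/-- The connecting map `T^n(ℤ/p^b) → T^(n+1)(ℤ/p^a)`. -/
def del (a b : ℕ) : (T.T n).obj (Zp p b) →+ (T.T (n + 1)).obj (Zp p a) :=
  (T.δ (ses_shortExact hp a b) n).hom

theorem tr_del (b : ℕ) {a a' : ℕ} (h : a ≤ a') (x : (T.T n).obj (Zp p b)) :
    (tower T hp (n + 1)).tr h (del T hp n a' b x) = del T hp n a b x := by
  have h1 := T.naturality (ses_shortExact hp a' b) (ses_shortExact hp a b) (sesMap p h b) n
  have h2 := congrArg (fun f => f.hom x) h1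
  change _ = (((T.T (n + 1)).map (up (redZ p h))).hom) (((T.δ (ses_shortExact hp a' b) n)).hom x) at h2
  refine h2.symm.trans ?_
  change (T.δ (ses_shortExact hp a b) n).hom (((T.T n).map (𝟙 _)).hom x) = _
  rw [CategoryTheory.Functor.map_id]
  rfl

theorem exists_tr_eq (a b : ℕ) (x : (T.T n).obj (Zp p b)) (hx : del T hp n a b x = 0) :
    ∃ y : (T.T n).obj (Zp p (a + b)), (tower T hp n).tr (Nat.le_add_left b a) y = x := by
  have h1 := T.exact₃ (ses_shortExact hp a b) n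
  rw [ShortComplex.ab_exact_iff] at h1
  exact h1 x hx

/-- The components on `ℤ/p^a` of an endomorphism of the functor `T^n`. -/
def comp (τ : T.T n ⟶ T.T n) (a : ℕ) : AddMonoid.End ((T.T n).obj (Zp p a)) := (τ.app (Zp p a)).hom

theorem compat_comp (τ : T.T n ⟶ T.T n) : (tower T hp n).Compat (comp T n τ (p := p)) := by
  intro a b h x
  exact (congrArg (fun f => f.hom x) (τ.naturality (up (redZ p h)))).symm

end Tower

/-- **Uniform quasi-unipotence** for a delta functor `T` on abelian groups with values in abelian groups: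
if `T^n(ℤ/ℓ^a)` and `T^(n+1)(ℤ/ℓ^a)` are finite, `Φ` is an endomorphism of `T` which is an automorphism on
them and `q ≥ 2`, there are `N > 0` and `m` such that for every endomorphism `Ψ` of `T`, injective on
these groups, with `Φ Ψ = Ψ^q Φ` on them, `(Ψ^N - 1)^m = 0` on `T^n(ℤ/ℓ^a)` for all `a`. -/
theorem exists_uniform_nilpotent (T : DeltaFunctor AddCommGrpCat.{w} AddCommGrpCat.{v}) {ℓ : ℕ}
    (hℓ : ℓ.Prime) (n : ℕ) (hfin : ∀ a, Finite ((T.T n).obj (Zp ℓ a)))
    (hfin' : ∀ a, Finite ((T.T (n + 1)).obj (Zp ℓ a))) (Φ : DeltaHom T T)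
    (hΦ : ∀ a, IsIso ((Φ.app n).app (Zp ℓ a))) (hΦ' : ∀ a, IsIso ((Φ.app (n + 1)).app (Zp ℓ a)))
    {q : ℕ} (hq : 2 ≤ q) :
    ∃ N m : ℕ, 0 < N ∧ ∀ Ψ : DeltaHom T T, (∀ a, Mono ((Ψ.app n).app (Zp ℓ a))) →
      (∀ a, Mono ((Ψ.app (n + 1)).app (Zp ℓ a))) →
      (∀ (a : ℕ) (x : (T.T n).obj (Zp ℓ a)), comp T n (Φ.app n) a (comp T n (Ψ.app n) a x) =
        ((comp T n (Ψ.app n) a) ^ q) (comp T n (Φ.app n) a x)) →
      (∀ (a : ℕ) (x : (T.T (n + 1)).obj (Zp ℓ a)),
        comp T (n + 1) (Φ.app (n + 1)) a (comp T (n + 1) (Ψ.app (n + 1)) a x) =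
        ((comp T (n + 1) (Ψ.app (n + 1)) a) ^ q) (comp T (n + 1) (Φ.app (n + 1)) a x)) →
      ∀ a, ((comp T n (Ψ.app n) a : AddMonoid.End ((T.T n).obj (Zp ℓ a))) ^ N - 1) ^ m = 0 := by
  have : Fact ℓ.Prime := ⟨hℓ⟩
  have hb : ∀ a, Function.Bijective (comp T n (Φ.app n) (p := ℓ) a) := fun a =>
    have := hΦ a
    ConcreteCategory.bijective_of_isIso ((Φ.app n).app (Zp ℓ a))
  have hb' : ∀ a, Function.Bijective (comp T (n + 1) (Φ.app (n + 1)) (p := ℓ) a) := fun a =>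
    have := hΦ' a
    ConcreteCategory.bijective_of_isIso ((Φ.app (n + 1)).app (Zp ℓ a))
  obtain ⟨N, m, hN, H⟩ := QuasiUnip.exists_uniform_nilpotent (tower T hℓ.ne_zero n)
    (tower T hℓ.ne_zero (n + 1)) (del T hℓ.ne_zero n) (tr_del T hℓ.ne_zero n)
    (exists_tr_eq T hℓ.ne_zero n) (comp T n (Φ.app n)) (compat_comp T hℓ.ne_zero n (Φ.app n)) hb
    (comp T (n + 1) (Φ.app (n + 1))) (compat_comp T hℓ.ne_zero (n + 1) (Φ.app (n + 1))) hb' hq
  refine ⟨N, m, hN, fun Ψ hΨ hΨ' hrel hrel' => H (comp T n (Ψ.app n)) (comp T (n + 1) (Ψ.app (n + 1)))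
    (compat_comp T hℓ.ne_zero n (Ψ.app n)) (fun a => ?_)
    (compat_comp T hℓ.ne_zero (n + 1) (Ψ.app (n + 1))) (fun a => ?_) (fun a b x => ?_) hrel hrel'⟩
  · exact (AddCommGrpCat.mono_iff_injective _).mp (hΨ a)
  · exact (AddCommGrpCat.mono_iff_injective _).mp (hΨ' a)
  · exact congrArg (fun f => f.hom x) (Ψ.comm (ses_shortExact hℓ.ne_zero a b) n)

end Groth.Agent.Sga7.H169.DeltaTower
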