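import Groth.Agent.Sga7.H169.DeltaTower
import Groth.Agent.Sga4B.DeltaH
import Groth.Agent.Etcore.HC

/-!
# Étale cohomology with constant coefficients as a delta functor on abelian groups

* `constD Y` : `n, A ↦ H^n(Y, A)`, delta functor `AddCommGrpCat.{u+1} → AddCommGrpCat.{u+1}`;
* `hcD g` : the morphism of delta functors `constD Y ⟶ constD X` given by pullback along
  `g : X ⟶ Y`; its component at a small group `M` is `HC M g n` (`Groth.Agent.Etcore.HC`), by `rfl`;
* `HC_map`, `HC_del` : naturality of `HC` in the coefficients, compatibility with the connecting maps;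
* `hcEnd M g n` : `HC M g n` for `g : Y ⟶ Y`, as an element of `AddMonoid.End`; `hcEnd_mul`, `hcEnd_one`;
* `exists_uniform_nilpotent` : uniform quasi-unipotence on `H^n(Y, ℤ/ℓ^a)`.
-/

set_option autoImplicit false

universe u

namespace Groth.Agent.Sga7.H169.EtDelta

open CategoryTheory CategoryTheory.Limits CategoryTheory.Abelian AlgebraicGeometry Opposite
  Groth.Agent.Localalg.DeltaFun Groth.Agent.Sga4B.DeltaH
  Groth.Agent.Sga7.H169.DeltaTower Groth.Agent.Etcore.HC Groth.Agent.Etcore.EtInst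
open scoped Groth.Agent.Etcore.EtInst Groth.Agent.Etcore.HC

/-- The constant sheaf functor. -/
noncomputable abbrev cstF (X : Scheme.{u}) : AddCommGrpCat.{u + 1} ⥤ EtCoh.Ab X :=
  constantSheaf X.smallEtaleTopology AddCommGrpCat.{u + 1}

/-- The constant sheaf functor is exact. -/
theorem preservesFiniteLimits_cst (X : Scheme.{u}) : PreservesFiniteLimits (cstF X) := by
  delta cstF constantSheaf
  infer_instance

attribute [local instance] preservesFiniteLimits_cst

theorem preservesFiniteColimits_cst (X : Scheme.{u}) : PreservesFiniteColimits (cstF X) :=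
  have : PreservesColimitsOfSize.{0, 0} (cstF X) := (EtCore.constAdj X).leftAdjoint_preservesColimits
  PreservesColimitsOfSize.preservesFiniteColimits _

attribute [local instance] preservesFiniteColimits_cst

theorem additive_cst (X : Scheme.{u}) : (cstF X).Additive :=
  (EtCore.constAdj X).left_adjoint_additive

attribute [local instance] additive_cst

/-- The delta functor `n, A ↦ H^n(Y, A)`. -/
noncomputable def constD (Y : Scheme.{u}) : DeltaFunctor AddCommGrpCat.{u + 1} AddCommGrpCat.{u + 1} :=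
  (ofExt (EtCoh.const Y ℤ)).precomp (cstF Y)

theorem constD_obj (Y : Scheme.{u}) (n : ℕ) (A : AddCommGrpCat.{u + 1}) :
    ((constD Y).T n).obj A = AddCommGrpCat.of (HH Y ((cstF Y).obj A) n) := rfl

theorem constD_map (Y : Scheme.{u}) (n : ℕ) {A B : AddCommGrpCat.{u + 1}} (f : A ⟶ B) :
    ((constD Y).T n).map f = AddCommGrpCat.ofHom (HHmap ((cstF Y).map f) n) := rfl

theorem constD_map_apply (Y : Scheme.{u}) (n : ℕ) {A B : AddCommGrpCat.{u + 1}} (f : A ⟶ B)
    (x : HH Y ((cstF Y).obj A) n) :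
    (((constD Y).T n).map f).hom x = HHmap ((cstF Y).map f) n x := rfl

theorem constD_δ_apply (Y : Scheme.{u}) {S : ShortComplex AddCommGrpCat.{u + 1}} (hS : S.ShortExact)
    (n : ℕ) (x : HH Y ((cstF Y).obj S.X₃) n) :
    ((constD Y).δ hS n).hom x = x.comp (hS.map_of_exact (cstF Y)).extClass rfl := rfl

section Pull

variable {X Y : Scheme.{u}} (g : X ⟶ Y)

/-- Pullback `H^n(Y, A) → H^n(X, A)` for an abelian group `A`. -/
noncomputable def pullMap (n : ℕ) (A : AddCommGrpCat.{u + 1}) :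
    ((constD Y).T n).obj A ⟶ ((constD X).T n).obj A :=
  AddCommGrpCat.ofHom (hpl g ((EtCore.pullConstIso g).hom.app A) n)

theorem pullMap_naturality (n : ℕ) {A B : AddCommGrpCat.{u + 1}} (h : A ⟶ B) :
    ((constD Y).T n).map h ≫ pullMap g n B = pullMap g n A ≫ ((constD X).T n).map h := by
  rw [constD_map, constD_map]
  refine AddCommGrpCat.hom_ext (AddMonoidHom.ext fun x => ?_)
  have h1 := hpl_map g ((cstF Y).map h) ((EtCore.pullConstIso g).hom.app B) n x
  have h2 := map_hpl g ((EtCore.pullConstIso g).hom.app A) ((cstF X).map h) n x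
  refine h1.trans (Eq.trans ?_ h2.symm)
  exact congrArg (fun k => hpl g k n x) ((EtCore.pullConstIso g).hom.naturality h)

theorem pullMap_δ {S : ShortComplex AddCommGrpCat.{u + 1}} (hS : S.ShortExact) (n : ℕ)
    (x : HH Y ((cstF Y).obj S.X₃) n) :
    hpl g ((EtCore.pullConstIso g).hom.app S.X₁) (n + 1)
      (x.comp (hS.map_of_exact (cstF Y)).extClass rfl) =
    (hpl g ((EtCore.pullConstIso g).hom.app S.X₃) n x).comp (hS.map_of_exact (cstF X)).extClass rfl := by
  let S₁ := (S.map (cstF Y)).map (EtCoh.pull g)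
  let S₂ := S.map (cstF X)
  let φ : S₁ ⟶ S₂ :=
    { τ₁ := (EtCore.pullConstIso g).hom.app S.X₁
      τ₂ := (EtCore.pullConstIso g).hom.app S.X₂
      τ₃ := (EtCore.pullConstIso g).hom.app S.X₃
      comm₁₂ := ((EtCore.pullConstIso g).hom.naturality S.f).symm
      comm₂₃ := ((EtCore.pullConstIso g).hom.naturality S.g).symm }
  exact hpl_extClass g (hS.map_of_exact (cstF Y)) (hS.map_of_exact (cstF X)) φ rfl x

/-- **Pullback along `g : X ⟶ Y` as a morphism of delta functors** `H^n(Y, -) → H^n(X, -)`. -/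
noncomputable def hcD : DeltaHom (constD Y) (constD X) where
  app n :=
    { app := pullMap g n
      naturality := fun {_ _} h => pullMap_naturality g n h }
  comm {S} hS n := by
    refine AddCommGrpCat.hom_ext (AddMonoidHom.ext fun x => ?_)
    exact (pullMap_δ g hS n x).symm

theorem hcD_app (n : ℕ) (M : Type) [AddCommGroup M] :
    (((hcD g).app n).app (AddCommGrpCat.of (ULift.{u + 1} M))).hom = HC M g n := rfl

/-- Naturality of `HC` in the coefficients. -/
theorem HC_map (n : ℕ) {M N : Type} [AddCommGroup M] [AddCommGroup N]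
    (f : M →+ N) (x : HH Y (EtCoh.const Y M) n) :
    HC N g n (HHmap ((cstF Y).map (up f)) n x) = HHmap ((cstF X).map (up f)) n (HC M g n x) :=
  congrArg (fun k => k.hom x) (pullMap_naturality g n (up f))

/-- Compatibility of `HC` with the connecting maps. -/
theorem HC_del {p : ℕ} (hp : p ≠ 0) (n a b : ℕ)
    (x : HH Y (EtCoh.const Y (ZMod (p ^ b))) n) :
    HC (ZMod (p ^ a)) g (n + 1) (del (constD Y) hp n a b x) =
      del (constD X) hp n a b (HC (ZMod (p ^ b)) g n x) :=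
  (congrArg (fun k => k.hom x) ((hcD g).comm (ses_shortExact hp a b) n)).symm

end Pull

section End

variable {Y : Scheme.{u}} (M : Type) [AddCommGroup M]

/-- The endomorphism of `H^n(Y, M)` defined by an endomorphism of `Y`. -/
noncomputable def hcEnd (g : Y ⟶ Y) (n : ℕ) : AddMonoid.End (HH Y (EtCoh.const Y M) n) := HC M g n

theorem hcEnd_apply (g : Y ⟶ Y) (n : ℕ) (x : HH Y (EtCoh.const Y M) n) : hcEnd M g n x = HC M g n x :=
  rfl

theorem hcEnd_mul (g h : Y ⟶ Y) (n : ℕ) : hcEnd M g n * hcEnd M h n = hcEnd M (g ≫ h) n :=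
  AddMonoidHom.ext fun x => (HC_comp M g h n x).symm

theorem hcEnd_one (n : ℕ) : hcEnd M (𝟙 Y) n = 1 :=
  AddMonoidHom.ext fun x => HC_id M n x

theorem bijective_hcEnd (g : Y ⟶ Y) [IsIso g] (n : ℕ) : Function.Bijective (hcEnd M g n) := by
  have h1 : ∀ x, hcEnd M g n (hcEnd M (inv g) n x) = x := fun x => by
    have h := hcEnd_mul M g (inv g) n
    rw [IsIso.hom_inv_id, hcEnd_one] at h
    exact DFunLike.congr_fun h x
  have h2 : ∀ x, hcEnd M (inv g) n (hcEnd M g n x) = x := fun x => by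
    have h := hcEnd_mul M (inv g) g n
    rw [IsIso.inv_hom_id, hcEnd_one] at h
    exact DFunLike.congr_fun h x
  exact ⟨fun x y hxy => by rw [← h2 x, ← h2 y, hxy], fun y => ⟨_, h1 y⟩⟩

theorem hcEnd_pow (g : Y ⟶ Y) [IsIso g] (n k : ℕ) : ∃ h : Y ⟶ Y, hcEnd M g n ^ k = hcEnd M h n := by
  induction k with
  | zero => exact ⟨𝟙 Y, by rw [pow_zero, hcEnd_one]⟩
  | succ k ih =>
    obtain ⟨h, hh⟩ := ih
    exact ⟨h ≫ g, by rw [pow_succ, hh, hcEnd_mul]⟩

end End

section Conv

variable {Y : Scheme.{u}} {ℓ n a : ℕ}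

/-- `hcEnd` in terms of `DeltaTower.comp`. -/
theorem comp_eq (g : Y ⟶ Y) :
    (DeltaTower.comp (constD Y) n ((hcD g).app n) a : AddMonoid.End (((constD Y).T n).obj (Zp ℓ a))) =
      hcEnd (ZMod (ℓ ^ a)) g n := rfl

theorem conv_nil (f : AddMonoid.End (((constD Y).T n).obj (Zp ℓ a)))
    (g : AddMonoid.End (HH Y (EtCoh.const Y (ZMod (ℓ ^ a))) n)) (h : f = g) (N m : ℕ)
    (h1 : (f ^ N - 1) ^ m = 0) : (g ^ N - 1) ^ m = 0 := by
  subst h
  exact h1

theorem conv_rel (f φ' : AddMonoid.End (((constD Y).T n).obj (Zp ℓ a)))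
    (g φ : AddMonoid.End (HH Y (EtCoh.const Y (ZMod (ℓ ^ a))) n)) (h : f = g) (hφ : φ' = φ) (q : ℕ)
    (h1 : φ * g = g ^ q * φ) (x : ((constD Y).T n).obj (Zp ℓ a)) : φ' (f x) = (f ^ q) (φ' x) := by
  subst h
  subst hφ
  exact DFunLike.congr_fun h1 x

theorem conv_inj (f : AddMonoid.End (((constD Y).T n).obj (Zp ℓ a)))
    (g : AddMonoid.End (HH Y (EtCoh.const Y (ZMod (ℓ ^ a))) n)) (h : f = g)
    (h1 : Function.Bijective g) : Function.Bijective f := by
  subst h
  exact h1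

theorem isIso_hcD (g : Y ⟶ Y) [IsIso g] : IsIso (((hcD g).app n).app (Zp ℓ a)) :=
  (ConcreteCategory.isIso_iff_bijective _).mpr
    (conv_inj (DeltaTower.comp (constD Y) n ((hcD g).app n) a) _ (comp_eq g) (bijective_hcEnd _ g n))

end Conv

/-- **Uniform quasi-unipotence on `H^n(Y, ℤ/ℓ^a)`.**  If `H^n(Y, ℤ/ℓ^a)` and `H^(n+1)(Y, ℤ/ℓ^a)` are
finite, `φ` is an automorphism of `Y` and `q ≥ 2`, there are `N > 0` and `m` such that for every
automorphism `τ` of `Y` with `φ^* τ^* = (τ^*)^q φ^*` on these groups, `((τ^*)^N - 1)^m = 0` on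
`H^n(Y, ℤ/ℓ^a)` for all `a`. -/
theorem exists_uniform_nilpotent (Y : Scheme.{u}) {ℓ : ℕ} (hℓ : ℓ.Prime) (n : ℕ)
    (hfin : ∀ i a : ℕ, i = n ∨ i = n + 1 → Finite (HH Y (EtCoh.const Y (ZMod (ℓ ^ a))) i))
    (φ : Y ⟶ Y) [IsIso φ] {q : ℕ} (hq : 2 ≤ q) :
    ∃ N m : ℕ, 0 < N ∧ ∀ (τ : Y ⟶ Y) [IsIso τ],
      (∀ i a : ℕ, i = n ∨ i = n + 1 → hcEnd (ZMod (ℓ ^ a)) φ i * hcEnd (ZMod (ℓ ^ a)) τ i =
        hcEnd (ZMod (ℓ ^ a)) τ i ^ q * hcEnd (ZMod (ℓ ^ a)) φ i) →
      ∀ a : ℕ, (hcEnd (ZMod (ℓ ^ a)) τ n ^ N - 1) ^ m = 0 := by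
  obtain ⟨N, m, hN, H⟩ := DeltaTower.exists_uniform_nilpotent (constD Y) hℓ n
    (fun a => hfin n a (Or.inl rfl)) (fun a => hfin (n + 1) a (Or.inr rfl)) (hcD φ)
    (fun a => isIso_hcD φ) (fun a => isIso_hcD φ) hq
  refine ⟨N, m, hN, fun τ hτ hrel a => conv_nil _ _ (comp_eq τ) N m (H (hcD τ) (fun a => ?_)
    (fun a => ?_) (fun a => conv_rel _ _ _ _ (comp_eq τ) (comp_eq φ) q (hrel n a (Or.inl rfl)))
    (fun a => conv_rel _ _ _ _ (comp_eq τ) (comp_eq φ) q (hrel (n + 1) a (Or.inr rfl))) a)⟩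
  · have := isIso_hcD (n := n) (ℓ := ℓ) (a := a) τ
    infer_instance
  · have := isIso_hcD (n := n + 1) (ℓ := ℓ) (a := a) τ
    infer_instance

end Groth.Agent.Sga7.H169.EtDelta
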