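import Groth.Agent.Sga7.H169.EtDelta

/-!
# Five lemma for `HC`: from `ℤ/ℓ` to `ℤ/ℓ^ν`

`bijective_HC_pow g hℓ m h ν` : if `H^q(Y, ℤ/ℓ) → H^q(X, ℤ/ℓ)` is bijective for `q ≤ m` and injective for
`q = m + 1`, then `H^q(Y, ℤ/ℓ^ν) → H^q(X, ℤ/ℓ^ν)` is bijective for `q ≤ m` (and injective for
`q = m + 1`), for all `ν`.
-/

set_option autoImplicit false

universe u w v

namespace Groth.Agent.Sga7.H169.FiveHC

open CategoryTheory CategoryTheory.Limits CategoryTheory.Abelian AlgebraicGeometry Opposite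
  Groth.Agent.Localalg.DeltaFun Groth.Agent.Sga4B.DeltaH
  Groth.Agent.Sga7.H169.DeltaTower Groth.Agent.Sga7.H169.EtDelta Groth.Agent.Etcore.HC
  Groth.Agent.Etcore.EtInst
open scoped Groth.Agent.Etcore.EtInst Groth.Agent.Etcore.HC

section Abstract

variable {T T' : DeltaFunctor AddCommGrpCat.{w} AddCommGrpCat.{v}} (Φ : DeltaHom T T')
  {S : ShortComplex AddCommGrpCat.{w}} (hS : S.ShortExact)

include hS

/-- Surjectivity at the middle term. -/
theorem surjective_mid (n : ℕ) (h₁ : Function.Surjective ((Φ.app n).app S.X₁).hom)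
    (h₃ : Function.Surjective ((Φ.app n).app S.X₃).hom)
    (h₄ : Function.Injective ((Φ.app (n + 1)).app S.X₁).hom) :
    Function.Surjective ((Φ.app n).app S.X₂).hom := by
  intro y
  -- the image of `y` in `T'^n C` lifts
  obtain ⟨c, hc⟩ := h₃ (((T'.T n).map S.g).hom y)
  have hδ : ((T.δ hS n).hom c) = 0 := by
    apply h₄
    have h5 := congrArg (fun k => k.hom c) (Φ.comm hS n)
    change ((T'.δ hS n).hom (((Φ.app n).app S.X₃).hom c)) =
      ((Φ.app (n + 1)).app S.X₁).hom ((T.δ hS n).hom c) at h5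
    rw [map_zero, ← h5, hc]
    exact congrArg (fun k => k.hom y) (T'.zero₃ hS n)
  obtain ⟨b, hb⟩ := (ShortComplex.ab_exact_iff _).mp (T.exact₃ hS n) c hδ
  change ((T.T n).map S.g).hom b = c at hb
  -- correct `b`
  have h6 : ((T'.T n).map S.g).hom (y - ((Φ.app n).app S.X₂).hom b) = 0 := by
    rw [map_sub, sub_eq_zero, ← hc, ← hb]
    exact congrArg (fun k => k.hom b) ((Φ.app n).naturality S.g)
  obtain ⟨a', ha'⟩ := (ShortComplex.ab_exact_iff _).mp (T'.exact₂ hS n) _ h6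
  change ((T'.T n).map S.f).hom a' = _ at ha'
  obtain ⟨a, rfl⟩ := h₁ a'
  refine ⟨((T.T n).map S.f).hom a + b, ?_⟩
  have h7 : ((Φ.app n).app S.X₂).hom (((T.T n).map S.f).hom a) =
      ((T'.T n).map S.f).hom (((Φ.app n).app S.X₁).hom a) :=
    congrArg (fun k => k.hom a) ((Φ.app n).naturality S.f)
  rw [map_add, h7, ha', sub_add_cancel]

/-- Injectivity at the middle term, degree `n + 1`. -/
theorem injective_mid_succ (n : ℕ) (h₀ : Function.Surjective ((Φ.app n).app S.X₃).hom)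
    (h₁ : Function.Injective ((Φ.app (n + 1)).app S.X₁).hom)
    (h₃ : Function.Injective ((Φ.app (n + 1)).app S.X₃).hom) :
    Function.Injective ((Φ.app (n + 1)).app S.X₂).hom := by
  rw [injective_iff_map_eq_zero]
  intro b hb
  have h4 : ((T.T (n + 1)).map S.g).hom b = 0 := by
    apply h₃
    have h5 : ((Φ.app (n + 1)).app S.X₃).hom (((T.T (n + 1)).map S.g).hom b) =
        ((T'.T (n + 1)).map S.g).hom (((Φ.app (n + 1)).app S.X₂).hom b) :=
      congrArg (fun k => k.hom b) ((Φ.app (n + 1)).naturality S.g)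
    rw [h5, hb, map_zero, map_zero]
  obtain ⟨a, ha⟩ := (ShortComplex.ab_exact_iff _).mp (T.exact₂ hS (n + 1)) b h4
  change ((T.T (n + 1)).map S.f).hom a = b at ha
  have h6 : ((T'.T (n + 1)).map S.f).hom (((Φ.app (n + 1)).app S.X₁).hom a) = 0 := by
    have h5 : ((Φ.app (n + 1)).app S.X₂).hom (((T.T (n + 1)).map S.f).hom a) =
        ((T'.T (n + 1)).map S.f).hom (((Φ.app (n + 1)).app S.X₁).hom a) :=
      congrArg (fun k => k.hom a) ((Φ.app (n + 1)).naturality S.f)
    rw [← h5, ha, hb]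
  obtain ⟨c', hc'⟩ := (ShortComplex.ab_exact_iff _).mp (T'.exact₁ hS n) _ h6
  change (T'.δ hS n).hom c' = _ at hc'
  obtain ⟨c, rfl⟩ := h₀ c'
  have h7 : (T'.δ hS n).hom (((Φ.app n).app S.X₃).hom c) =
      ((Φ.app (n + 1)).app S.X₁).hom ((T.δ hS n).hom c) :=
    congrArg (fun k => k.hom c) (Φ.comm hS n)
  have h8 : (T.δ hS n).hom c = a := h₁ (h7.symm.trans hc')
  rw [← ha, ← h8]
  exact congrArg (fun k => k.hom c) (T.zero₁ hS n)

/-- Injectivity at the middle term, degree `0`. -/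
theorem injective_mid_zero (h0 : Function.Injective ((T'.T 0).map S.f).hom)
    (h₁ : Function.Injective ((Φ.app 0).app S.X₁).hom)
    (h₃ : Function.Injective ((Φ.app 0).app S.X₃).hom) :
    Function.Injective ((Φ.app 0).app S.X₂).hom := by
  rw [injective_iff_map_eq_zero]
  intro b hb
  have h4 : ((T.T 0).map S.g).hom b = 0 := by
    apply h₃
    have h5 : ((Φ.app 0).app S.X₃).hom (((T.T 0).map S.g).hom b) =
        ((T'.T 0).map S.g).hom (((Φ.app 0).app S.X₂).hom b) :=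
      congrArg (fun k => k.hom b) ((Φ.app 0).naturality S.g)
    rw [h5, hb, map_zero, map_zero]
  have h8 : ∃ a : ((T.T 0).obj S.X₁), ((T.T 0).map S.f).hom a = b :=
    (ShortComplex.ab_exact_iff _).mp (T.exact₂ hS 0) b h4
  obtain ⟨a, ha⟩ := h8
  have h6 : ((T'.T 0).map S.f).hom (((Φ.app 0).app S.X₁).hom a) = 0 := by
    have h5 : ((Φ.app 0).app S.X₂).hom (((T.T 0).map S.f).hom a) =
        ((T'.T 0).map S.f).hom (((Φ.app 0).app S.X₁).hom a) :=
      congrArg (fun k => k.hom a) ((Φ.app 0).naturality S.f)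
    rw [← h5, ha, hb]
  have h7 : a = 0 := by
    apply h₁
    apply h0
    rw [h6, map_zero, map_zero]
  rw [← ha, h7, map_zero]

end Abstract

section AbstractZp

variable {T T' : DeltaFunctor AddCommGrpCat.{w} AddCommGrpCat.{v}} (Φ : DeltaHom T T')

/-- **Five lemma**, abstract form for the groups `ℤ/ℓ^a`. -/
theorem five_Zp {ℓ : ℕ} (hℓ : ℓ ≠ 0) (m a b : ℕ)
    (h0 : Function.Injective ((T'.T 0).map (ses.{w} ℓ a b).f).hom)
    (ha : ∀ q, q ≤ m → Function.Bijective ((Φ.app q).app (Zp.{w} ℓ a)).hom)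
    (ha' : Function.Injective ((Φ.app (m + 1)).app (Zp.{w} ℓ a)).hom)
    (hb : ∀ q, q ≤ m → Function.Bijective ((Φ.app q).app (Zp.{w} ℓ b)).hom)
    (hb' : Function.Injective ((Φ.app (m + 1)).app (Zp.{w} ℓ b)).hom) :
    (∀ q, q ≤ m → Function.Bijective ((Φ.app q).app (Zp.{w} ℓ (a + b))).hom) ∧
      Function.Injective ((Φ.app (m + 1)).app (Zp.{w} ℓ (a + b))).hom := by
  have hS := ses_shortExact.{w} hℓ a b
  refine ⟨fun q hq => ⟨?_, ?_⟩, ?_⟩
  · cases q with
    | zero => exact injective_mid_zero Φ hS h0 (ha 0 hq).1 (hb 0 hq).1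
    | succ q =>
      exact injective_mid_succ Φ hS q (hb q (by omega)).2 (ha (q + 1) hq).1 (hb (q + 1) hq).1
  · refine surjective_mid Φ hS q (ha q hq).2 (hb q hq).2 ?_
    rcases Nat.lt_or_ge q m with h | h
    · exact (ha (q + 1) h).1
    · obtain rfl : q = m := le_antisymm hq h
      exact ha'
  · exact injective_mid_succ Φ hS m (hb m le_rfl).2 ha' hb'

end AbstractZp

/-- `H^0(Y, -)` is left exact. -/
theorem injective_zero (Y : Scheme.{u}) {S : ShortComplex AddCommGrpCat.{u + 1}} (hS : S.ShortExact) :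
    Function.Injective (((constD Y).T 0).map S.f).hom := by
  have : PreservesFiniteLimits (cstF Y) := preservesFiniteLimits_cst Y
  have : Mono S.f := hS.mono_f
  have hm : Mono ((cstF Y).map S.f) := inferInstance
  exact Ext.postcomp_mk₀_injective_of_mono (EtCoh.const Y ℤ) ((cstF Y).map S.f)

section Conv

variable {X Y : Scheme.{u}} {ℓ n a : ℕ}

theorem app_eq (g : X ⟶ Y) : (((hcD g).app n).app (Zp ℓ a)).hom = HC (ZMod (ℓ ^ a)) g n := rfl

theorem to_bij (f : ((constD Y).T n).obj (Zp ℓ a) →+ ((constD X).T n).obj (Zp ℓ a))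
    (g : HH Y (EtCoh.const Y (ZMod (ℓ ^ a))) n →+ HH X (EtCoh.const X (ZMod (ℓ ^ a))) n) (h : f = g)
    (h1 : Function.Bijective g) : Function.Bijective f := by
  subst h
  exact h1

theorem of_bij (f : ((constD Y).T n).obj (Zp ℓ a) →+ ((constD X).T n).obj (Zp ℓ a))
    (g : HH Y (EtCoh.const Y (ZMod (ℓ ^ a))) n →+ HH X (EtCoh.const X (ZMod (ℓ ^ a))) n) (h : f = g)
    (h1 : Function.Bijective f) : Function.Bijective g := by
  subst h
  exact h1

theorem to_inj (f : ((constD Y).T n).obj (Zp ℓ a) →+ ((constD X).T n).obj (Zp ℓ a))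
    (g : HH Y (EtCoh.const Y (ZMod (ℓ ^ a))) n →+ HH X (EtCoh.const X (ZMod (ℓ ^ a))) n) (h : f = g)
    (h1 : Function.Injective g) : Function.Injective f := by
  subst h
  exact h1

theorem of_inj (f : ((constD Y).T n).obj (Zp ℓ a) →+ ((constD X).T n).obj (Zp ℓ a))
    (g : HH Y (EtCoh.const Y (ZMod (ℓ ^ a))) n →+ HH X (EtCoh.const X (ZMod (ℓ ^ a))) n) (h : f = g)
    (h1 : Function.Injective f) : Function.Injective g := by
  subst h
  exact h1

end Conv

section HC

variable {X Y : Scheme.{u}} (g : X ⟶ Y)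

/-- Replace the coefficient group by an isomorphic one. -/
theorem bijective_HC_congr {M N : Type} [AddCommGroup M] [AddCommGroup N] (e : M ≃+ N) (n : ℕ)
    (h : Function.Bijective (HC M g n)) : Function.Bijective (HC N g n) := by
  have h1 : ∀ (Z : Scheme.{u}), Function.Bijective (HHmap ((cstF Z).map (up.{u + 1} e.toAddMonoidHom)) n) := by
    intro Z
    have h2 : IsIso (up.{u + 1} e.toAddMonoidHom) := by
      refine ⟨up.{u + 1} e.symm.toAddMonoidHom, ?_, ?_⟩
      · rw [← up_comp]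
        have : e.symm.toAddMonoidHom.comp e.toAddMonoidHom = AddMonoidHom.id M :=
          AddMonoidHom.ext fun x => e.symm_apply_apply x
        rw [this, up_id]
      · rw [← up_comp]
        have : e.toAddMonoidHom.comp e.symm.toAddMonoidHom = AddMonoidHom.id N :=
          AddMonoidHom.ext fun x => e.apply_symm_apply x
        rw [this, up_id]
    exact HHmap_bijective _ n
  have h3 : ⇑(HC N g n) ∘ ⇑(HHmap ((cstF Y).map (up.{u + 1} e.toAddMonoidHom)) n) =
      ⇑(HHmap ((cstF X).map (up.{u + 1} e.toAddMonoidHom)) n) ∘ ⇑(HC M g n) :=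
    funext fun x => HC_map g n e.toAddMonoidHom x
  have h4 : Function.Bijective (⇑(HC N g n) ∘ ⇑(HHmap ((cstF Y).map (up.{u + 1} e.toAddMonoidHom)) n)) := by
    rw [h3]
    exact (h1 X).comp h
  exact (Function.Bijective.of_comp_iff _ (h1 Y)).mp h4

/-- **Five lemma.**  Bijectivity for `ℤ/ℓ^a` and `ℤ/ℓ^b` gives bijectivity for `ℤ/ℓ^(a+b)`. -/
theorem bijective_HC_add {ℓ : ℕ} (hℓ : ℓ ≠ 0) (m a b : ℕ)
    (ha : ∀ q, q ≤ m → Function.Bijective (HC (ZMod (ℓ ^ a)) g q))
    (ha' : Function.Injective (HC (ZMod (ℓ ^ a)) g (m + 1)))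
    (hb : ∀ q, q ≤ m → Function.Bijective (HC (ZMod (ℓ ^ b)) g q))
    (hb' : Function.Injective (HC (ZMod (ℓ ^ b)) g (m + 1))) :
    (∀ q, q ≤ m → Function.Bijective (HC (ZMod (ℓ ^ (a + b))) g q)) ∧
      Function.Injective (HC (ZMod (ℓ ^ (a + b))) g (m + 1)) := by
  have H := five_Zp (hcD g) hℓ m a b (injective_zero X (ses_shortExact.{u + 1} hℓ a b))
    (fun q hq => to_bij _ _ (app_eq g) (ha q hq)) (to_inj _ _ (app_eq g) ha')
    (fun q hq => to_bij _ _ (app_eq g) (hb q hq)) (to_inj _ _ (app_eq g) hb')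
  exact ⟨fun q hq => of_bij _ _ (app_eq g) (H.1 q hq), of_inj _ _ (app_eq g) H.2⟩

/-- **From `ℤ/ℓ` to `ℤ/ℓ^ν`.** -/
theorem bijective_HC_pow {ℓ : ℕ} (hℓ : ℓ ≠ 0) (m : ℕ)
    (h : ∀ q, q ≤ m → Function.Bijective (HC (ZMod ℓ) g q))
    (h' : Function.Injective (HC (ZMod ℓ) g (m + 1))) (ν : ℕ) :
    (∀ q, q ≤ m → Function.Bijective (HC (ZMod (ℓ ^ ν)) g q)) ∧
      Function.Injective (HC (ZMod (ℓ ^ ν)) g (m + 1)) := by
  have hsub : ∀ (Z : Scheme.{u}) (q : ℕ), Subsingleton (HH Z (EtCoh.const Z (ZMod (ℓ ^ 0))) q) :=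
    fun Z q => ⟨fun x y => by
      have h1 : ∀ z : HH Z (EtCoh.const Z (ZMod (ℓ ^ 0))) q, z = 0 := fun z => by
        have h2 := (tower (constD Z) hℓ q).torsion 0 z
        rwa [pow_zero, one_nsmul] at h2
      rw [h1 x, h1 y]⟩
  -- `ZMod (ℓ ^ 1) = ZMod ℓ`
  have e1 : ZMod ℓ ≃+ ZMod (ℓ ^ 1) := (ZMod.ringEquivCongr (pow_one ℓ).symm).toAddEquiv
  have k1 : ∀ q, q ≤ m → Function.Bijective (HC (ZMod (ℓ ^ 1)) g q) := fun q hq =>
    bijective_HC_congr g e1 q (h q hq)
  have k1' : Function.Injective (HC (ZMod (ℓ ^ 1)) g (m + 1)) := by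
    intro x y hxy
    have hb : ∀ (Z : Scheme.{u}), Function.Bijective (HHmap ((cstF Z).map
        (up.{u + 1} e1.symm.toAddMonoidHom)) (m + 1)) := by
      intro Z
      have h2 : IsIso (up.{u + 1} e1.symm.toAddMonoidHom) := by
        refine ⟨up.{u + 1} e1.toAddMonoidHom, ?_, ?_⟩
        · rw [← up_comp]
          have : e1.toAddMonoidHom.comp e1.symm.toAddMonoidHom = AddMonoidHom.id _ :=
            AddMonoidHom.ext fun x => e1.apply_symm_apply x
          rw [this, up_id]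
        · rw [← up_comp]
          have : e1.symm.toAddMonoidHom.comp e1.toAddMonoidHom = AddMonoidHom.id _ :=
            AddMonoidHom.ext fun x => e1.symm_apply_apply x
          rw [this, up_id]
      exact HHmap_bijective _ (m + 1)
    apply (hb Y).1
    apply h'
    rw [HC_map, HC_map, hxy]
  induction ν with
  | zero => exact ⟨fun q hq => by
      have := hsub X q
      have := hsub Y q
      exact ⟨fun x y _ => Subsingleton.elim _ _, fun y => ⟨0, Subsingleton.elim _ _⟩⟩,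
      by
        have := hsub Y (m + 1)
        exact fun x y _ => Subsingleton.elim _ _⟩
  | succ ν ih =>
    rw [Nat.add_comm ν 1]
    exact bijective_HC_add g hℓ m 1 ν k1 k1' ih.1 ih.2

end HC

end Groth.Agent.Sga7.H169.FiveHC
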