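import Mathlib.LinearAlgebra.Eigenspace.Minpoly
import Mathlib.FieldTheory.IsAlgClosed.Spectrum
import Mathlib.FieldTheory.IsAlgClosed.AlgebraicClosure
import Mathlib.LinearAlgebra.TensorProduct.Basis
import Mathlib.RingTheory.TensorProduct.Finite
import Mathlib.RingTheory.Flat.FaithfullyFlat.Algebra
import Mathlib.LinearAlgebra.Charpoly.ToMatrix
import Mathlib.LinearAlgebra.Eigenspace.Charpoly
import Mathlib.GroupTheory.OrderOfElement
import Mathlib.GroupTheory.Perm.Basic

/-!
# Quasi-unipotence from `G T G⁻¹ = T^c` (linear algebra over a field)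

`T`, `G` automorphisms of a vector space of dimension `r` with `G T = T^c G`, `2 ≤ c`: then
`(T^N - 1)^r = 0` for `N = c^(r!) - 1`.
-/

set_option autoImplicit false

namespace Groth.Agent.Sga7.H169.QuasiUnipLin

open Polynomial Module

/-- A finite set of nonzero elements on which the `c`-th power map is surjective consists of roots of
unity of order dividing `c^(r!) - 1`, where `r` is a bound for the number of elements. -/
theorem pow_eq_one_of_surjOn {k : Type*} [Field k] (S : Finset k) {c r : ℕ}
    (hr : S.card ≤ r) (h0 : ∀ x ∈ S, x ≠ 0) (hc : 2 ≤ c) (hsurj : ∀ y ∈ S, ∃ x ∈ S, x ^ c = y)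
    (hmap : ∀ x ∈ S, x ^ c ∈ S) : ∀ x ∈ S, x ^ (c ^ r.factorial - 1) = 1 := by
  classical
  let φ : S → S := fun x => ⟨x.1 ^ c, hmap x.1 x.2⟩
  have hφs : Function.Surjective φ := by
    rintro ⟨y, hy⟩
    obtain ⟨x, hx, hxy⟩ := hsurj y hy
    exact ⟨⟨x, hx⟩, Subtype.ext hxy⟩
  have hφ : Function.Bijective φ := ⟨Finite.injective_iff_surjective.mpr hφs, hφs⟩
  let e : Equiv.Perm S := Equiv.ofBijective φ hφ
  have hd' : e ^ r.factorial = 1 := by
    have h1 : e ^ (Fintype.card (Equiv.Perm S)) = 1 := pow_card_eq_one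
    rw [Fintype.card_perm, Fintype.card_coe] at h1
    obtain ⟨m, hm⟩ := Nat.factorial_dvd_factorial hr
    rw [hm, pow_mul, h1, one_pow]
  have hiter : ∀ (n : ℕ) (x : S), ((e ^ n) x).1 = x.1 ^ (c ^ n) := by
    intro n
    induction n with
    | zero => intro x; simp
    | succ n ih =>
      intro x
      rw [pow_succ', Equiv.Perm.mul_apply]
      change ((e ^ n) x).1 ^ c = _
      rw [ih x, ← pow_mul, ← pow_succ]
  have h1 : 1 < c ^ r.factorial := Nat.one_lt_pow r.factorial_pos.ne' (by omega)
  intro x hx
  have h2 := hiter r.factorial ⟨x, hx⟩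
  rw [hd'] at h2
  have h3 : x = x ^ (c ^ r.factorial) := h2
  have h4 : x ^ (c ^ r.factorial - 1) * x = 1 * x := by
    rw [one_mul, ← pow_succ, Nat.sub_add_cancel h1.le]
    exact h3.symm
  exact mul_right_cancel₀ (h0 x hx) h4

/-- Over an algebraically closed field. -/
theorem pow_sub_one_pow_of_isAlgClosed {k V : Type*} [Field k] [IsAlgClosed k]
    [AddCommGroup V] [Module k V] [FiniteDimensional k V] (T G : End k V)
    (hT : Function.Injective T) (hG : Function.Bijective G) {c : ℕ} (hc : 2 ≤ c)
    (h : G * T = T ^ c * G) :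
    (T ^ (c ^ (finrank k V).factorial - 1) - 1) ^ finrank k V = 0 := by
  classical
  have hne : minpoly k T ≠ 0 := minpoly.ne_zero_of_finite k T
  have hdeg : (minpoly k T).natDegree ≤ finrank k V := by
    rw [← LinearMap.charpoly_natDegree T]
    exact natDegree_le_of_dvd (LinearMap.minpoly_dvd_charpoly T) (LinearMap.charpoly_monic T).ne_zero
  let S : Finset k := (minpoly k T).roots.toFinset
  have hS : ∀ μ : k, μ ∈ S ↔ T.HasEigenvalue μ := by
    intro μ
    rw [End.hasEigenvalue_iff_isRoot, Multiset.mem_toFinset, mem_roots hne]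
  have hcard : S.card ≤ finrank k V :=
    (Multiset.toFinset_card_le _).trans ((card_roots' _).trans hdeg)
  have hS0 : ∀ x ∈ S, x ≠ 0 := by
    rintro x hx rfl
    obtain ⟨v, hv⟩ := ((hS 0).mp hx).exists_hasEigenvector
    have h1 : T v = 0 := by rw [hv.apply_eq_smul, zero_smul]
    exact hv.2 (hT (by rw [h1, map_zero]))
  -- eigenvalues of `T ^ c`
  have hTc : ∀ μ : k, (T ^ c).HasEigenvalue μ ↔ T.HasEigenvalue μ := by
    intro μ
    constructor
    · intro hμ
      obtain ⟨v, hv⟩ := hμ.exists_hasEigenvector
      obtain ⟨w, rfl⟩ := hG.2 v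
      refine End.hasEigenvalue_of_hasEigenvector (x := w) ⟨?_, ?_⟩
      · rw [End.mem_eigenspace_iff]
        apply hG.1
        have h2 : G (T w) = (T ^ c) (G w) := by
          have := congrArg (fun f => f w) h
          exact this
        rw [h2, hv.apply_eq_smul, map_smul]
      · rintro rfl
        exact hv.2 (map_zero G)
    · intro hμ
      obtain ⟨v, hv⟩ := hμ.exists_hasEigenvector
      refine End.hasEigenvalue_of_hasEigenvector (x := G v) ⟨?_, ?_⟩
      · rw [End.mem_eigenspace_iff]
        have h2 : G (T v) = (T ^ c) (G v) := by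
          have := congrArg (fun f => f v) h
          exact this
        rw [← h2, hv.apply_eq_smul, map_smul]
      · intro h0
        exact hv.2 (hG.1 (by rw [h0, map_zero]))
  have hspec : ∀ μ : k, T.HasEigenvalue μ ↔ μ ∈ spectrum k T := fun μ =>
    End.hasEigenvalue_iff_mem_spectrum
  have hspecc : ∀ μ : k, (T ^ c).HasEigenvalue μ ↔ μ ∈ spectrum k (T ^ c) := fun μ =>
    End.hasEigenvalue_iff_mem_spectrum
  have hpow : spectrum k (T ^ c) = (fun x : k => x ^ c) '' spectrum k T :=
    spectrum.map_pow_of_pos T (by omega)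
  have hN' := pow_eq_one_of_surjOn S hcard hS0 hc
    (fun y hy => by
      have h1 : y ∈ spectrum k (T ^ c) := (hspecc y).mp ((hTc y).mpr ((hS y).mp hy))
      rw [hpow] at h1
      obtain ⟨x, hx, hxy⟩ := h1
      exact ⟨x, (hS x).mpr ((hspec x).mpr hx), hxy⟩)
    (fun x hx => by
      have h1 : x ^ c ∈ spectrum k (T ^ c) := by
        rw [hpow]
        exact ⟨x, (hspec x).mp ((hS x).mp hx), rfl⟩
      exact (hS _).mpr ((hTc _).mp ((hspecc _).mpr h1)))
  set N := c ^ (finrank k V).factorial - 1 with hN
  have hsplit : (minpoly k T).Splits := IsAlgClosed.splits _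
  have hdvd : minpoly k T ∣ (X ^ N - 1 : k[X]) ^ (minpoly k T).natDegree := by
    have hroot : ∀ μ ∈ (minpoly k T).roots, (X - C μ : k[X]) ∣ X ^ N - 1 := by
      intro μ hμ
      rw [dvd_iff_isRoot]
      have h1 : μ ∈ S := Multiset.mem_toFinset.mpr hμ
      simp [IsRoot, hN' μ h1]
    have h2 : minpoly k T = ((minpoly k T).roots.map fun a => X - C a).prod :=
      hsplit.eq_prod_roots_of_monic (minpoly.monic (Algebra.IsIntegral.isIntegral T))
    have h3 : (minpoly k T).natDegree = (minpoly k T).roots.card := hsplit.natDegree_eq_card_roots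
    rw [h3]
    conv_lhs => rw [h2]
    have h4 : ∀ s : Multiset k, (∀ μ ∈ s, (X - C μ : k[X]) ∣ X ^ N - 1) →
        (s.map fun a => X - C a).prod ∣ (X ^ N - 1 : k[X]) ^ s.card := by
      intro s
      induction s using Multiset.induction with
      | empty => intro _; simp
      | cons a s ih =>
        intro hs
        rw [Multiset.map_cons, Multiset.prod_cons, Multiset.card_cons, pow_succ']
        exact mul_dvd_mul (hs a (Multiset.mem_cons_self a s))
          (ih fun μ hμ => hs μ (Multiset.mem_cons_of_mem hμ))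
    exact h4 _ hroot
  obtain ⟨q, hq⟩ := hdvd
  have h5 := congrArg (aeval T) hq
  simp only [map_pow, map_sub, aeval_X, map_one, map_mul, minpoly.aeval, zero_mul] at h5
  exact pow_eq_zero_of_le hdeg h5

/-- Over an arbitrary field. -/
theorem pow_sub_one_pow {k V : Type*} [Field k]
    [AddCommGroup V] [Module k V] [FiniteDimensional k V] (T G : End k V)
    (hT : Function.Injective T) (hG : Function.Bijective G) {c : ℕ} (hc : 2 ≤ c)
    (h : G * T = T ^ c * G) :
    (T ^ (c ^ (finrank k V).factorial - 1) - 1) ^ finrank k V = 0 := by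
  let K := AlgebraicClosure k
  let T' : End K (TensorProduct k K V) := T.baseChange K
  let G' : End K (TensorProduct k K V) := G.baseChange K
  have hT' : Function.Injective T' :=
    Module.Flat.lTensor_preserves_injective_linearMap (M := K) T hT
  have hG' : Function.Bijective G' := ⟨Module.Flat.lTensor_preserves_injective_linearMap (M := K) G hG.1,
    LinearMap.lTensor_surjective K hG.2⟩
  have hmul : ∀ A B : End k V, (A * B).baseChange K = A.baseChange K * B.baseChange K :=
    fun A B => LinearMap.baseChange_mul A B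
  have hpow : ∀ (A : End k V) (n : ℕ), (A ^ n).baseChange K = (A.baseChange K) ^ n :=
    fun A n => LinearMap.baseChange_pow (R := k) (M := V) (A := K) (f := A) (n := n)
  have hm := pow_sub_one_pow_of_isAlgClosed T' G' hT' hG' hc (by
    change G.baseChange K * T.baseChange K = (T.baseChange K) ^ c * G.baseChange K
    rw [← hmul, ← hpow, ← hmul, h])
  rw [show finrank K (TensorProduct k K V) = finrank k V from finrank_baseChange] at hm
  set N := c ^ (finrank k V).factorial - 1
  set m := finrank k V
  have h1 : ((T ^ N - 1) ^ m).baseChange K = 0 := by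
    rw [hpow, LinearMap.baseChange_sub, hpow]
    have h2 : (1 : End k V).baseChange K = 1 := LinearMap.baseChange_one _ _
    rw [h2]
    exact hm
  ext v
  have h3 : (TensorProduct.mk k K V 1) (((T ^ N - 1) ^ m) v) = 0 := by
    have := congrArg (fun f => f (TensorProduct.mk k K V 1 v)) h1
    simpa only [TensorProduct.mk_apply, LinearMap.baseChange_tmul, LinearMap.zero_apply] using this
  have h4 := (Module.FaithfullyFlat.tensorProduct_mk_injective (A := k) (B := K) V)
  rw [LinearMap.zero_apply]
  exact h4 (by rw [map_zero]; exact h3)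

end Groth.Agent.Sga7.H169.QuasiUnipLin
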