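import Groth.Agent.Sga7.H169.QuasiUnipLin
import Mathlib.NumberTheory.Padics.RingHoms
import Mathlib.NumberTheory.Padics.PadicIntegers
import Mathlib.Algebra.Module.Torsion.Basic
import Mathlib.RingTheory.PrincipalIdealDomain
import Mathlib.Algebra.Module.LocalizedModule.Basic
import Mathlib.RingTheory.Localization.BaseChange
import Mathlib.RingTheory.Localization.Module
import Mathlib.RingTheory.Flat.Localization

/-!
# Quasi-unipotence from `G T = T^c G` for finite modules over `ℤ_[p]`, uniform in `T`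
-/

set_option autoImplicit false

namespace Groth.Agent.Sga7.H169.QuasiUnipZl

open Module Groth.Agent.Sga7.H169.QuasiUnipLin

variable {p : ℕ} [Fact p.Prime]

/-- A finitely generated `ℤ_[p]`-module killed by `p^k` is finite. -/
theorem finite_of_killed {L : Type*} [AddCommGroup L] [Module ℤ_[p] L] [Module.Finite ℤ_[p] L]
    {k : ℕ} (hk : ∀ x : L, (p : ℤ_[p]) ^ k • x = 0) : Finite L := by
  obtain ⟨n, f, hf⟩ := Module.Finite.exists_fin' ℤ_[p] L
  have : NeZero (p ^ k) := ⟨pow_ne_zero _ (Fact.out : p.Prime).ne_zero⟩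
  let g : (Fin n → ZMod (p ^ k)) → L := fun z => f fun i => ((z i).val : ℤ_[p])
  refine Finite.of_surjective g fun x => ?_
  obtain ⟨v, rfl⟩ := hf x
  refine ⟨fun i => PadicInt.toZModPow k (v i), ?_⟩
  have h1 : ∀ i, ∃ w : ℤ_[p], v i - (((PadicInt.toZModPow k (v i)).val : ℕ) : ℤ_[p]) = p ^ k * w := by
    intro i
    have h2 : v i - (((PadicInt.toZModPow k (v i)).val : ℕ) : ℤ_[p]) ∈
        RingHom.ker (PadicInt.toZModPow (p := p) k) := by
      rw [RingHom.mem_ker, map_sub, map_natCast, ZMod.natCast_val, ZMod.cast_id', id, sub_self]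
    rw [PadicInt.ker_toZModPow, Ideal.mem_span_singleton] at h2
    exact h2
  choose w hw using h1
  have h3 : f v - g (fun i => PadicInt.toZModPow k (v i)) = 0 := by
    change f v - f _ = 0
    rw [← map_sub]
    have h4 : (v - fun i => (((PadicInt.toZModPow k (v i)).val : ℕ) : ℤ_[p])) =
        (p : ℤ_[p]) ^ k • w := by
      ext i
      rw [Pi.sub_apply, hw i]
      rfl
    rw [h4, map_smul, hk]
  exact (sub_eq_zero.mp h3).symm

/-- The torsion submodule of a finitely generated `ℤ_[p]`-module is finite. -/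
theorem finite_torsion (L : Type*) [AddCommGroup L] [Module ℤ_[p] L] [Module.Finite ℤ_[p] L] :
    Finite (Submodule.torsion ℤ_[p] L) := by
  have hfg : (Submodule.torsion ℤ_[p] L).FG := IsNoetherian.noetherian _
  have : Module.Finite ℤ_[p] (Submodule.torsion ℤ_[p] L) := Module.Finite.iff_fg.mpr hfg
  obtain ⟨s, hs⟩ := hfg
  have h1 : ∀ x ∈ s, ∃ k : ℕ, (p : ℤ_[p]) ^ k • x = 0 := by
    intro x hx
    have hx' : x ∈ Submodule.torsion ℤ_[p] L := hs ▸ Submodule.subset_span hx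
    obtain ⟨a, ha⟩ := (Submodule.mem_torsion_iff x).mp hx'
    have ha0 : (a : ℤ_[p]) ≠ 0 := nonZeroDivisors.coe_ne_zero a
    refine ⟨(a : ℤ_[p]).valuation, ?_⟩
    have h2 := PadicInt.unitCoeff_spec ha0
    have h3 : ((PadicInt.unitCoeff ha0 : ℤ_[p]ˣ) : ℤ_[p]) • ((p : ℤ_[p]) ^ (a : ℤ_[p]).valuation • x) = 0 := by
      rw [smul_smul, ← h2]
      exact ha
    have h4 : ((PadicInt.unitCoeff ha0)⁻¹ : ℤ_[p]ˣ) •
        (((PadicInt.unitCoeff ha0 : ℤ_[p]ˣ) : ℤ_[p]) • ((p : ℤ_[p]) ^ (a : ℤ_[p]).valuation • x)) = 0 := by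
      rw [h3, smul_zero]
    rwa [← Units.smul_def, inv_smul_smul] at h4
  choose! k hk using h1
  refine finite_of_killed (p := p) (L := Submodule.torsion ℤ_[p] L) (k := s.sup k) fun x => ?_
  ext
  rw [Submodule.coe_smul, Submodule.coe_zero]
  have hx : (x : L) ∈ Submodule.span ℤ_[p] (s : Set L) := by rw [hs]; exact x.2
  refine Submodule.span_induction (p := fun y _ => (p : ℤ_[p]) ^ s.sup k • y = 0) ?_ ?_ ?_ ?_ hx
  · intro y hy
    have h5 : k y ≤ s.sup k := Finset.le_sup hy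
    rw [← Nat.sub_add_cancel h5, pow_add, mul_smul, hk y hy, smul_zero]
  · exact smul_zero _
  · intro y z _ _ hy hz
    rw [smul_add, hy, hz, add_zero]
  · intro a y _ hy
    rw [smul_comm, hy, smul_zero]

/-- Uniform quasi-unipotence over `ℤ_[p]`. -/
theorem exists_uniform (L : Type*) [AddCommGroup L] [Module ℤ_[p] L] [Module.Finite ℤ_[p] L]
    (G : End ℤ_[p] L) (hG : Function.Bijective G) {c : ℕ} (hc : 2 ≤ c) :
    ∃ N m : ℕ, 0 < N ∧ ∀ T : End ℤ_[p] L, Function.Injective T → G * T = T ^ c * G →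
      (T ^ N - 1) ^ m = 0 := by
  classical
  let V := TensorProduct ℤ_[p] ℚ_[p] L
  have : Finite (Submodule.torsion ℤ_[p] L) := finite_torsion L
  have : Fintype (Submodule.torsion ℤ_[p] L) := Fintype.ofFinite _
  set r := finrank ℚ_[p] V with hr
  set N₀ := c ^ r.factorial - 1 with hN₀
  set N₁ := (Fintype.card (Submodule.torsion ℤ_[p] L)).factorial with hN₁
  have hN₀pos : 0 < N₀ := by
    have : 1 < c ^ r.factorial := Nat.one_lt_pow r.factorial_pos.ne' (by omega)
    omega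
  refine ⟨N₀ * N₁, r + 1, Nat.mul_pos hN₀pos (Nat.factorial_pos _), fun T hT h => ?_⟩
  -- the torsion part
  have hmem : ∀ x ∈ Submodule.torsion ℤ_[p] L, ∀ A : End ℤ_[p] L, A x ∈ Submodule.torsion ℤ_[p] L := by
    intro x hx A
    obtain ⟨a, ha⟩ := (Submodule.mem_torsion_iff x).mp hx
    refine (Submodule.mem_torsion_iff _).mpr ⟨a, ?_⟩
    rw [Submonoid.smul_def] at ha ⊢
    rw [← map_smul, ha, map_zero]
  have htors : ∀ x ∈ Submodule.torsion ℤ_[p] L, (T ^ N₁) x = x := by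
    let φ : Submodule.torsion ℤ_[p] L → Submodule.torsion ℤ_[p] L := fun x => ⟨T x.1, hmem x.1 x.2 T⟩
    have hφi : Function.Injective φ := by
      intro x y hxy
      exact Subtype.ext (hT (congrArg Subtype.val hxy))
    have hφ : Function.Bijective φ := ⟨hφi, Finite.injective_iff_surjective.mp hφi⟩
    let e : Equiv.Perm (Submodule.torsion ℤ_[p] L) := Equiv.ofBijective φ hφ
    have he : e ^ N₁ = 1 := by
      have h1 : e ^ (Fintype.card (Equiv.Perm (Submodule.torsion ℤ_[p] L))) = 1 := pow_card_eq_one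
      rwa [Fintype.card_perm] at h1
    have hiter : ∀ (n : ℕ) (x : Submodule.torsion ℤ_[p] L), ((e ^ n) x).1 = (T ^ n) x.1 := by
      intro n
      induction n with
      | zero => intro x; simp
      | succ n ih =>
        intro x
        rw [pow_succ', Equiv.Perm.mul_apply, pow_succ']
        change T ((e ^ n) x).1 = _
        rw [ih x]
        rfl
    intro x hx
    rw [← hiter N₁ ⟨x, hx⟩, he]
    rfl
  -- the vector space part
  have hflat : Module.Flat ℤ_[p] ℚ_[p] := IsLocalization.flat ℚ_[p] (nonZeroDivisors ℤ_[p])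
  have hmul : ∀ A B : End ℤ_[p] L, (A * B).baseChange ℚ_[p] = A.baseChange ℚ_[p] * B.baseChange ℚ_[p] :=
    fun A B => LinearMap.baseChange_mul A B
  have hpow : ∀ (A : End ℤ_[p] L) (n : ℕ), (A ^ n).baseChange ℚ_[p] = (A.baseChange ℚ_[p]) ^ n :=
    fun A n => LinearMap.baseChange_pow (R := ℤ_[p]) (M := L) (A := ℚ_[p]) (f := A) (n := n)
  have hm := pow_sub_one_pow (T.baseChange ℚ_[p]) (G.baseChange ℚ_[p])
    (Module.Flat.lTensor_preserves_injective_linearMap (M := ℚ_[p]) T hT)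
    ⟨Module.Flat.lTensor_preserves_injective_linearMap (M := ℚ_[p]) G hG.1,
      LinearMap.lTensor_surjective ℚ_[p] hG.2⟩ hc (by rw [← hmul, ← hpow, ← hmul, h])
  have h1 : ((T ^ N₀ - 1) ^ r).baseChange ℚ_[p] = 0 := by
    rw [hpow, LinearMap.baseChange_sub, hpow]
    have h2 : (1 : End ℤ_[p] L).baseChange ℚ_[p] = 1 := LinearMap.baseChange_one _ _
    rw [h2]
    exact hm
  have h2 : ∀ x : L, ((T ^ N₀ - 1) ^ r) x ∈ Submodule.torsion ℤ_[p] L := by
    intro x
    have h3 : (TensorProduct.mk ℤ_[p] ℚ_[p] L 1) (((T ^ N₀ - 1) ^ r) x) = 0 := by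
      have := congrArg (fun f => f (TensorProduct.mk ℤ_[p] ℚ_[p] L 1 x)) h1
      simpa only [TensorProduct.mk_apply, LinearMap.baseChange_tmul, LinearMap.zero_apply] using this
    have h4 : IsLocalizedModule (nonZeroDivisors ℤ_[p]) (TensorProduct.mk ℤ_[p] ℚ_[p] L 1) :=
      (isLocalizedModule_iff_isBaseChange (nonZeroDivisors ℤ_[p]) ℚ_[p] _).mpr
        (TensorProduct.isBaseChange ℤ_[p] L ℚ_[p])
    rw [IsLocalizedModule.eq_zero_iff (nonZeroDivisors ℤ_[p])] at h3
    exact (Submodule.mem_torsion_iff _).mpr h3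
  -- conclusion
  obtain ⟨Q, hQ⟩ : ∃ Q : End ℤ_[p] L, T ^ (N₀ * N₁) - 1 = Q * (T ^ N₀ - 1) ∧ Commute Q (T ^ N₀ - 1) := by
    refine ⟨∑ i ∈ Finset.range N₁, (T ^ N₀) ^ i, ?_, ?_⟩
    · rw [pow_mul]
      exact (geom_sum_mul (T ^ N₀) N₁).symm
    · refine Commute.sub_right ?_ (Commute.one_right _)
      exact Commute.sum_left _ _ _ fun i _ => (Commute.refl (T ^ N₀)).pow_left i
  ext x
  rw [pow_succ', LinearMap.zero_apply, Module.End.mul_apply]
  have h5 : ((T ^ (N₀ * N₁) - 1) ^ r) x ∈ Submodule.torsion ℤ_[p] L := by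
    rw [hQ.1, hQ.2.mul_pow, Module.End.mul_apply]
    exact hmem _ (h2 x) _
  have h6 : ∀ y ∈ Submodule.torsion ℤ_[p] L, (T ^ (N₀ * N₁) - 1) y = 0 := by
    intro y hy
    have h7 : ∀ n : ℕ, ((T ^ N₁) ^ n) y = y := by
      intro n
      induction n with
      | zero => rfl
      | succ n ih => rw [pow_succ, Module.End.mul_apply, htors y hy, ih]
    rw [LinearMap.sub_apply, mul_comm, pow_mul, h7]
    exact sub_self y
  exact h6 _ h5

end Groth.Agent.Sga7.H169.QuasiUnipZl
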